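/-
Groups generated by three involutions with pairwise products of order three and one further such
relation have at most 54 elements; with this the extension of a 2-core by such a group splits.
-/
import Mathlib.GroupTheory.OrderOfElement
import Mathlib.GroupTheory.Sylow
import Mathlib.Tactic.Group
import Mathlib.Algebra.Group.Pointwise.Set.Card
import Mathlib.Tactic.IntervalCases
open scoped Pointwise

set_option autoImplicit false

namespace CfsgLib.ThreeTri

variable {G : Type*} [Group G]

theorem braid_of {a b : G} (ha : a * a = 1) (hb : b * b = 1) (h : (a * b) ^ 3 = 1) :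
    a * b * a = b * a * b := by
  have ha' : a⁻¹ = a := inv_eq_of_mul_eq_one_left ha
  have hb' : b⁻¹ = b := inv_eq_of_mul_eq_one_left hb
  rw [pow_succ, pow_two] at h
  calc a * b * a = (a * b * (a * b) * (a * b)) * (b⁻¹ * a⁻¹ * b⁻¹) := by group
    _ = b⁻¹ * a⁻¹ * b⁻¹ := by rw [h, one_mul]
    _ = b * a * b := by rw [ha', hb']

/-- Two such involutions generate at most `6` elements. -/
theorem card_dihedral_le [Finite G] {a b : G} (ha : a * a = 1) (hb : b * b = 1) (hab : (a * b) ^ 3 = 1) :
    Nat.card (Subgroup.closure ({a, b} : Set G)) ≤ 6 := by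
  have eab := braid_of ha hb hab
  have hinv : ∀ {x : G}, x * x = 1 → x⁻¹ = x := fun h => inv_eq_of_mul_eq_one_left h
  set W := Subgroup.closure ({a, b} : Set G) with hW
  -- the dihedral part
  set S : Set G := {1, a, b, a * b, b * a, a * b * a} with hS
  have hSmul : ∀ x ∈ S, ∀ g ∈ ({a, b} : Set G), x * g ∈ S := by
    intro x hx g hg
    simp only [hS, Set.mem_insert_iff, Set.mem_singleton_iff] at hx hg ⊢
    rcases hx with rfl | rfl | rfl | rfl | rfl | rfl <;> rcases hg with rfl | rfl <;>
      simp only [one_mul, ha, hb, mul_assoc, mul_one, true_or, or_true] <;>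
      simp only [← mul_assoc, true_or, or_true, eab]
    all_goals first
      | tauto
      | (rw [← eab]; simp only [mul_assoc, ha, mul_one]; tauto)
      | (simp only [mul_assoc, hb, mul_one]; tauto)
  have hWS : (W : Set G) ⊆ S := by
    intro x hx
    induction hx using Subgroup.closure_induction_right with
    | one => simp [hS]
    | mul_right x _ g hg ih => exact hSmul x ih g hg
    | mul_inv_cancel x _ g hg ih =>
      rcases hg with rfl | rfl
      · rw [hinv ha]; exact hSmul x ih _ (by simp)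
      · rw [hinv hb]; exact hSmul x ih _ (by simp)
  refine (Nat.card_mono (Set.toFinite S) hWS).trans ?_
  rw [Nat.card_coe_set_eq, hS]
  refine (Set.ncard_insert_le _ _).trans (Nat.add_le_add_right ?_ 1)
  refine (Set.ncard_insert_le _ _).trans (Nat.add_le_add_right ?_ 1)
  refine (Set.ncard_insert_le _ _).trans (Nat.add_le_add_right ?_ 1)
  refine (Set.ncard_insert_le _ _).trans (Nat.add_le_add_right ?_ 1)
  refine (Set.ncard_insert_le _ _).trans (Nat.add_le_add_right ?_ 1)
  simp

/-- Three such involutions generate at most `54` elements. -/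
theorem card_closure_le [Finite G] {a b c : G} (ha : a * a = 1) (hb : b * b = 1) (hc : c * c = 1)
    (hab : (a * b) ^ 3 = 1) (hbc : (b * c) ^ 3 = 1) (hac : (a * c) ^ 3 = 1)
    (hd : (a * (b * c * b)) ^ 3 = 1) : Nat.card (Subgroup.closure ({a, b, c} : Set G)) ≤ 54 := by
  classical
  set T₁ := a * (b * c * b) with hT₁
  set T₂ := b * (a * c * a) with hT₂
  have eab := braid_of ha hb hab
  have ebc := braid_of hb hc hbc
  have eac := braid_of ha hc hac
  have h12 : T₁ * T₂ = b * a * b * c := by
    calc T₁ * T₂ = a * b * c * (b * b) * a * c * a := by simp only [hT₁, hT₂, mul_assoc]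
      _ = a * b * c * (a * c * a) := by rw [hb, mul_one]; simp only [mul_assoc]
      _ = a * b * (c * c) * a * c := by rw [eac]; simp only [mul_assoc]
      _ = b * a * b * c := by rw [hc, mul_one, eab]
  have h21 : T₂ * T₁ = b * a * b * c := by
    calc T₂ * T₁ = b * a * c * (a * a) * b * c * b := by simp only [hT₁, hT₂, mul_assoc]
      _ = b * a * c * (b * c * b) := by rw [ha, mul_one]; simp only [mul_assoc]
      _ = b * a * (c * c) * b * c := by rw [ebc]; simp only [mul_assoc]
      _ = b * a * b * c := by rw [hc, mul_one]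
  have hcomm : T₁ * T₂ = T₂ * T₁ := h12.trans h21.symm
  have hinv : ∀ {x : G}, x * x = 1 → x⁻¹ = x := fun h => inv_eq_of_mul_eq_one_left h
  have a1 : a * T₁ * a⁻¹ = T₁⁻¹ := by
    rw [hT₁, mul_inv_rev, mul_inv_rev, mul_inv_rev, hinv ha, hinv hb, hinv hc, ← mul_assoc a a, ha, one_mul]
    simp only [mul_assoc]
  have b2 : b * T₂ * b⁻¹ = T₂⁻¹ := by
    rw [hT₂, mul_inv_rev, mul_inv_rev, mul_inv_rev, hinv ha, hinv hb, hinv hc, ← mul_assoc b b, hb, one_mul]
    simp only [mul_assoc]
  have a2 : a * T₂ * a⁻¹ = T₁ * T₂ := by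
    rw [h12, hT₂, hinv ha, ← eab]
    simp only [mul_assoc, ha, mul_one]
  have b1 : b * T₁ * b⁻¹ = T₁ * T₂ := by
    rw [h12, hT₁, hinv hb]
    simp only [mul_assoc, hb, mul_one]
  have h3 : T₁ ^ 3 = 1 := hd
  have h3' : (T₁ * T₂) ^ 3 = 1 := by rw [← b1, conj_pow, h3, mul_one, mul_inv_cancel]
  have h3'' : T₂ ^ 3 = 1 := by
    rw [(show Commute T₁ T₂ from hcomm).mul_pow, h3, one_mul] at h3'
    exact h3'
  set N := Subgroup.closure ({T₁, T₂} : Set G) with hN
  have m1 : T₁ ∈ N := Subgroup.subset_closure (by simp)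
  have m2 : T₂ ∈ N := Subgroup.subset_closure (by simp)
  have hnorm : ∀ g : G, g * T₁ * g⁻¹ ∈ N → g * T₂ * g⁻¹ ∈ N → ∀ n ∈ N, g * n * g⁻¹ ∈ N := by
    intro g g1 g2
    have : N ≤ N.comap (MulAut.conj g).toMonoidHom := by
      refine (Subgroup.closure_le _).2 ?_
      rintro x (rfl | rfl)
      exacts [g1, g2]
    exact fun n hn => this hn
  have hNa := hnorm a (a1 ▸ inv_mem m1) (a2 ▸ mul_mem m1 m2)
  have hNb := hnorm b (b1 ▸ mul_mem m1 m2) (b2 ▸ inv_mem m2)
  set W := Subgroup.closure ({a, b} : Set G) with hW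
  have hWN : W ≤ Subgroup.normalizer (N : Set G) := by
    refine (Subgroup.closure_le _).2 ?_
    have key : ∀ g : G, g * g = 1 → (∀ n ∈ N, g * n * g⁻¹ ∈ N) → g ∈ Subgroup.normalizer (N : Set G) := by
      intro g hg h
      refine Subgroup.mem_normalizer_iff.2 fun x => ⟨h x, fun hx => ?_⟩
      have h2 := h _ hx
      rwa [hinv hg, ← mul_assoc, ← mul_assoc, hg, one_mul, mul_assoc, hg, mul_one] at h2
    rintro x (rfl | rfl)
    exacts [key _ ha hNa, key _ hb hNb]
  have hWcard : Nat.card W ≤ 6 := card_dihedral_le ha hb hab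
  -- the normal part
  have hred : ∀ {T : G}, T ^ 3 = 1 → ∀ i : ℤ, ∃ j : Fin 3, T ^ i = T ^ (j : ℕ) := by
    intro T hT i
    refine ⟨⟨(i % 3).toNat, by omega⟩, ?_⟩
    rw [← zpow_natCast, show (((i % 3).toNat : ℕ) : ℤ) = i % 3 by omega]
    conv_lhs => rw [← Int.emod_add_mul_ediv i 3]
    rw [zpow_add, zpow_mul, show T ^ (3 : ℤ) = 1 from by exact_mod_cast hT, one_zpow, mul_one]
  have hNcard : Nat.card N ≤ 9 := by
    have hs : ∀ n ∈ N, ∃ i j : ℤ, n = T₁ ^ i * T₂ ^ j := by
      intro n hn
      induction hn using Subgroup.closure_induction with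
      | one => exact ⟨0, 0, by simp⟩
      | mem x hx =>
        rcases hx with rfl | rfl
        exacts [⟨1, 0, by simp⟩, ⟨0, 1, by simp⟩]
      | mul x y _ _ hx hy =>
        obtain ⟨i, j, rfl⟩ := hx; obtain ⟨k, l, rfl⟩ := hy
        refine ⟨i + k, j + l, ?_⟩
        rw [zpow_add, zpow_add, mul_assoc (T₁ ^ i), ← mul_assoc (T₂ ^ j),
          ((show Commute T₁ T₂ from hcomm).zpow_zpow k j).symm.eq]
        simp only [mul_assoc]
      | inv x _ hx =>
        obtain ⟨i, j, rfl⟩ := hx
        exact ⟨-i, -j, by rw [mul_inv_rev, ← zpow_neg, ← zpow_neg,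
          ((show Commute T₁ T₂ from hcomm).zpow_zpow (-i) (-j)).eq]⟩
    have hsurj : ∀ n : N, ∃ q : Fin 3 × Fin 3, (n : G) = T₁ ^ (q.1 : ℕ) * T₂ ^ (q.2 : ℕ) := by
      intro n
      obtain ⟨i, j, e⟩ := hs n n.2
      obtain ⟨i', hi⟩ := hred h3 i
      obtain ⟨j', hj⟩ := hred h3'' j
      exact ⟨(i', j'), by rw [e, hi, hj]⟩
    choose f hf using hsurj
    have := Nat.card_le_card_of_injective f fun x y h => Subtype.ext ((hf x).trans (by rw [h, ← hf y]))
    simpa using this
  have hle : Subgroup.closure ({a, b, c} : Set G) ≤ W ⊔ N := by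
    refine (Subgroup.closure_le _).2 ?_
    have hawm : a ∈ W := Subgroup.subset_closure (by simp)
    have hbwm : b ∈ W := Subgroup.subset_closure (by simp)
    rintro x (rfl | rfl | rfl)
    · exact Subgroup.mem_sup_left hawm
    · exact Subgroup.mem_sup_left hbwm
    · have : x = b * a * T₁ * b := by
        simp only [hT₁, mul_assoc, hb, mul_one]
        rw [← mul_assoc a a, ha, one_mul, ← mul_assoc b b, hb, one_mul]
      rw [this]
      exact mul_mem (mul_mem (mul_mem (Subgroup.mem_sup_left hbwm) (Subgroup.mem_sup_left hawm))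
        (Subgroup.mem_sup_right m1)) (Subgroup.mem_sup_left hbwm)
  refine (Nat.card_mono (Set.toFinite _) hle).trans ?_
  rw [Nat.card_congr (Equiv.setCongr (Subgroup.coe_mul_of_left_le_normalizer_right W N hWN))]
  calc Nat.card ((W : Set G) * (N : Set G) : Set G)
      ≤ Nat.card W * Nat.card N := by
        simpa [Nat.card_coe_set_eq] using Set.natCard_mul_le (s := (W : Set G)) (t := (N : Set G))
    _ ≤ 6 * 9 := Nat.mul_le_mul hWcard hNcard
    _ = 54 := rfl

theorem commute_of_mul_sq {x y : G} (hx : x * x = 1) (hy : y * y = 1) (h : (x * y) ^ 2 = 1) :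
    Commute x y := by
  rw [pow_two] at h
  have e := eq_inv_of_mul_eq_one_left h
  rw [mul_inv_rev, inv_eq_of_mul_eq_one_left hx, inv_eq_of_mul_eq_one_left hy] at e
  exact e

/-- Commuting distinct involutions give a four-group. -/
theorem four_dvd_of_commute [Finite G] {x y : G} (hx : orderOf x = 2) (hy : orderOf y = 2) (hne : x ≠ y)
    (h : Commute x y) : 4 ∣ Nat.card G := by
  haveI : Fact (Nat.Prime 2) := ⟨Nat.prime_two⟩
  set X := Subgroup.zpowers x
  set Y := Subgroup.zpowers y
  have hX : IsPGroup 2 X := IsPGroup.of_card (n := 1) (by rw [Nat.card_zpowers, hx, pow_one])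
  have hY : IsPGroup 2 Y := IsPGroup.of_card (n := 1) (by rw [Nat.card_zpowers, hy, pow_one])
  have hXY : Y ≤ Subgroup.normalizer (X : Set G) := Subgroup.zpowers_le.2 (Subgroup.mem_normalizer_iff.2 fun z => by
    have hc : ∀ u, u ∈ X → y * u = u * y := by
      rintro u ⟨i, rfl⟩
      exact (h.symm.zpow_right i).eq
    constructor
    · intro hz; rw [hc z hz, mul_inv_cancel_right]; exact hz
    · intro hz
      have h2 : y * z * y⁻¹ = z := by
        have := hc _ hz
        have e : y * (y * z * y⁻¹) = y * z := by rw [this]; group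
        exact mul_left_cancel e
      rwa [h2] at hz)
  obtain ⟨k, hk⟩ := IsPGroup.iff_card.1 (hX.to_sup_of_normal_left' hY hXY)
  have h2 : 2 ∣ Nat.card (X ⊔ Y : Subgroup G) := by
    have := Subgroup.card_dvd_of_le (le_sup_left : X ≤ X ⊔ Y)
    rwa [Nat.card_zpowers, hx] at this
  have hlt : 2 < Nat.card (X ⊔ Y : Subgroup G) := by
    have hyX : y ∉ X := by
      intro hy'
      classical
      rw [mem_zpowers_iff_mem_range_orderOf, hx] at hy'
      simp only [Finset.mem_image, Finset.mem_range] at hy'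
      obtain ⟨i, hi, rfl⟩ := hy'
      interval_cases i
      · simp at hy
      · exact hne (pow_one x).symm
    by_contra hle
    have hX2 : Nat.card X = 2 := by rw [Nat.card_zpowers, hx]
    have := Subgroup.eq_of_le_of_card_ge (le_sup_left : X ≤ X ⊔ Y) (by omega)
    exact hyX (this.symm ▸ Subgroup.mem_sup_right (Subgroup.mem_zpowers y))
  have h4 : 4 ∣ Nat.card (X ⊔ Y : Subgroup G) := by
    rw [hk] at hlt ⊢
    exact pow_dvd_pow 2 (show 2 ≤ k by by_contra hk2; interval_cases k <;> simp at hlt)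
  exact h4.trans (Subgroup.card_subgroup_dvd_card _)

end CfsgLib.ThreeTri
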