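/-
The derived group of SU(3,2): order 54, generated by three involutions.
-/
import Cfsg.Agent.Unitary.ThreeTwo
import Cfsg.Agent.ThreeTri.Triangle
import Mathlib.GroupTheory.Commutator.Basic

set_option autoImplicit false
set_option linter.style.haveILetI false

namespace CfsgLib.ThreeTri

open Matrix CfsgLib.Unitary

variable {F : Type*} [Field F] [Fintype F]

theorem quaternion_comm : ∀ x y : QuaternionGroup 2,
    x * y * x⁻¹ * y⁻¹ = 1 ∨ x * y * x⁻¹ * y⁻¹ = QuaternionGroup.a 2 := by decide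

theorem quaternion_invol : ∀ x : QuaternionGroup 2, x * x = 1 → x = 1 ∨ x = QuaternionGroup.a 2 := by
  decide


theorem su_ext' {g h : Cfsg.SU 3 F 2} (e : suMat g = suMat h) : g = h := Subtype.ext (Subtype.ext e)

theorem exists_mk (M : Matrix (Fin 3) (Fin 3) F) (hd : M.det = 1)
    (hp : ∀ u v : Fin 3 → F, Cfsg.hermForm 3 F 2 (M *ᵥ u) (M *ᵥ v) = Cfsg.hermForm 3 F 2 u v) :
    ∃ g : Cfsg.SU 3 F 2, suMat g = M :=
  ⟨⟨⟨M, hd⟩, hp⟩, rfl⟩

theorem exists_mono (hF' : Nat.card F = 2 ^ 2) {w : F} (hw3 : w ^ 3 = 1) :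
    ∃ A B C : Cfsg.SU 3 F 2, suMat A = !![0, 1, 0; 1, 0, 0; 0, 0, 1] ∧
      suMat B = !![1, 0, 0; 0, 0, 1; 0, 1, 0] ∧ suMat C = !![0, w, 0; w ^ 2, 0, 0; 0, 0, 1] := by
  have h2 : (2 : F) = 0 := two_eq_zero' hF'
  obtain ⟨A, hA⟩ := exists_mk (!![0, 1, 0; 1, 0, 0; 0, 0, 1] : Matrix (Fin 3) (Fin 3) F)
    (by rw [Matrix.det_fin_three]; simp; linear_combination (-1 : F) * h2)
    (fun u v => by simp [Cfsg.hermForm, Fin.sum_univ_three, Matrix.mulVec, dotProduct]; ring)
  obtain ⟨B, hB⟩ := exists_mk (!![1, 0, 0; 0, 0, 1; 0, 1, 0] : Matrix (Fin 3) (Fin 3) F)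
    (by rw [Matrix.det_fin_three]; simp; linear_combination (-1 : F) * h2)
    (fun u v => by simp [Cfsg.hermForm, Fin.sum_univ_three, Matrix.mulVec, dotProduct]; ring)
  obtain ⟨C, hC⟩ := exists_mk (!![0, w, 0; w ^ 2, 0, 0; 0, 0, 1] : Matrix (Fin 3) (Fin 3) F)
    (by rw [Matrix.det_fin_three]; simp; linear_combination (-1 : F) * hw3 - h2)
    (fun u v => by
      simp [Cfsg.hermForm, Fin.sum_univ_three, Matrix.mulVec, dotProduct]
      linear_combination (u 1 * v 1 ^ 2) * hw3 + (u 0 * v 0 ^ 2) * (w ^ 3 + 1) * hw3)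
  exact ⟨A, B, C, hA, hB, hC⟩

theorem dvd_closure {w : F} (hw0 : w ≠ 0) (hw1 : w ≠ 1) (hw3 : w ^ 3 = 1) {A B C : Cfsg.SU 3 F 2}
    (mA : suMat A = !![0, 1, 0; 1, 0, 0; 0, 0, 1]) (mB : suMat B = !![1, 0, 0; 0, 0, 1; 0, 1, 0])
    (mC : suMat C = !![0, w, 0; w ^ 2, 0, 0; 0, 0, 1]) :
    27 ∣ Nat.card (Subgroup.closure ({A, B, C} : Set (Cfsg.SU 3 F 2))) := by
  classical
  set W := Subgroup.closure ({A, B, C} : Set (Cfsg.SU 3 F 2)) with hW
  have hAW : A ∈ W := Subgroup.subset_closure (by simp)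
  have hBW : B ∈ W := Subgroup.subset_closure (by simp)
  have hCW : C ∈ W := Subgroup.subset_closure (by simp)
  have inj : ∀ g h : Cfsg.SU 3 F 2, suMat g = suMat h → g = h := fun _ _ e => su_ext' e
  set D₁ := C * A with hD₁
  set D₂ := B * (C * A) * B with hD₂
  set Y := A * B with hY
  have mD₁ : suMat D₁ = Matrix.diagonal ![w, w ^ 2, 1] := by
    rw [hD₁, suMat_mul, mA, mC]; ext i j; fin_cases i <;> fin_cases j <;> simp [Matrix.mul_apply, Fin.sum_univ_three, Matrix.vecMul_diagonal]
  have mD₂ : suMat D₂ = Matrix.diagonal ![w, 1, w ^ 2] := by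
    rw [hD₂, suMat_mul, suMat_mul, mB, ← hD₁, mD₁]
    ext i j; fin_cases i <;> fin_cases j <;> simp [Matrix.mul_apply, Fin.sum_univ_three, Matrix.vecMul_diagonal]
  have mY : suMat Y = !![0, 0, 1; 1, 0, 0; 0, 1, 0] := by
    rw [hY, suMat_mul, mA, mB]; ext i j; fin_cases i <;> fin_cases j <;> simp [Matrix.mul_apply, Fin.sum_univ_three, Matrix.vecMul_diagonal]
  haveI : Fact (Nat.Prime 3) := ⟨Nat.prime_three⟩
  have hY3 : Y ^ 3 = 1 := inj _ _ (by
    rw [pow_succ, pow_two, suMat_mul, suMat_mul, suMat_one, mY]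
    ext i j; fin_cases i <;> fin_cases j <;> simp [Matrix.mul_apply, Fin.sum_univ_three, Matrix.vecMul_diagonal])
  set H := Subgroup.closure ({D₁, D₂} : Set (Cfsg.SU 3 F 2)) with hH
  have hdiag : ∀ h ∈ H, h ^ 3 = 1 ∧ ∀ i j, i ≠ j → suMat h i j = 0 := by
    intro h hh
    have hd : ∀ h ∈ H, ∃ d, suMat h = Matrix.diagonal d ∧ ∀ i, d i ^ 3 = 1 := by
      intro h hh
      induction hh using Subgroup.closure_induction_left with
      | one => exact ⟨fun _ => 1, by rw [suMat_one, Matrix.diagonal_one], fun _ => one_pow 3⟩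
      | mul_left g hg x _ ih =>
        obtain ⟨d, hd, hd3⟩ := ih
        rcases hg with rfl | rfl
        · exact ⟨fun i => ![w, w ^ 2, 1] i * d i, by rw [suMat_mul, mD₁, hd, Matrix.diagonal_mul_diagonal],
            fun i => by rw [mul_pow, hd3, mul_one]; fin_cases i <;> simp [hw3] <;> linear_combination (w ^ 3 + 1) * hw3⟩
        · exact ⟨fun i => ![w, 1, w ^ 2] i * d i, by rw [suMat_mul, mD₂, hd, Matrix.diagonal_mul_diagonal],
            fun i => by rw [mul_pow, hd3, mul_one]; fin_cases i <;> simp [hw3] <;> linear_combination (w ^ 3 + 1) * hw3⟩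
      | inv_mul_cancel g hg x _ ih =>
        obtain ⟨d, hd, hd3⟩ := ih
        have : ∃ e : Fin 3 → F, suMat g⁻¹ = Matrix.diagonal e ∧ ∀ i, e i ^ 3 = 1 := by
          have key : ∀ (v : Fin 3 → F), suMat g = Matrix.diagonal v → (∀ i, v i ^ 3 = 1) →
              ∃ e : Fin 3 → F, suMat g⁻¹ = Matrix.diagonal e ∧ ∀ i, e i ^ 3 = 1 := by
            intro v hv hv3
            have hg3 : g ^ 3 = 1 := inj _ _ (by
              rw [pow_succ, pow_two, suMat_mul, suMat_mul, suMat_one, hv, Matrix.diagonal_mul_diagonal,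
                Matrix.diagonal_mul_diagonal, ← Matrix.diagonal_one]
              exact congrArg Matrix.diagonal (funext fun i => by rw [← hv3 i]; ring))
            refine ⟨fun i => v i * v i, ?_, fun i => by rw [mul_pow, hv3, mul_one]⟩
            rw [show g⁻¹ = g * g from inv_eq_of_mul_eq_one_left (by rw [← hg3, pow_succ, pow_two]),
              suMat_mul, hv, Matrix.diagonal_mul_diagonal]
          rcases hg with rfl | rfl
          · exact key _ mD₁ (fun i => by fin_cases i <;> simp [hw3] <;> linear_combination (w ^ 3 + 1) * hw3)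
          · exact key _ mD₂ (fun i => by fin_cases i <;> simp [hw3] <;> linear_combination (w ^ 3 + 1) * hw3)
        obtain ⟨e, he, he3⟩ := this
        exact ⟨fun i => e i * d i, by rw [suMat_mul, he, hd, Matrix.diagonal_mul_diagonal],
          fun i => by rw [mul_pow, he3, hd3, mul_one]⟩
    obtain ⟨d, hd', hd3⟩ := hd h hh
    refine ⟨inj _ _ ?_, fun i j hij => by rw [hd', Matrix.diagonal_apply_ne _ hij]⟩
    rw [pow_succ, pow_two, suMat_mul, suMat_mul, suMat_one, hd', Matrix.diagonal_mul_diagonal,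
      Matrix.diagonal_mul_diagonal, ← Matrix.diagonal_one]
    exact congrArg Matrix.diagonal (funext fun i => by rw [← hd3 i]; ring)
  have hH3 : IsPGroup 3 H := fun h => ⟨1, by
    apply Subtype.ext; simpa using (hdiag h h.2).1⟩
  have hY3' : IsPGroup 3 (Subgroup.zpowers Y) := fun u => ⟨1, by
    obtain ⟨i, hi⟩ := u.2
    apply Subtype.ext
    simp only [pow_one, Subgroup.coe_pow, Subgroup.coe_one, ← hi]
    rw [← zpow_natCast, ← _root_.zpow_mul, mul_comm, _root_.zpow_mul]
    simp [hY3]⟩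
  have hYnorm : Subgroup.zpowers Y ≤ Subgroup.normalizer (H : Set (Cfsg.SU 3 F 2)) := by
    rw [Subgroup.zpowers_le]
    have hle : H ≤ H.comap (MulAut.conj Y).toMonoidHom := by
      refine (Subgroup.closure_le _).2 ?_
      have d1 : Y * D₁ * Y⁻¹ ∈ H := by
        have : Y * D₁ = (D₁ * D₁ * D₂) * Y := by
          refine inj _ _ ?_
          simp only [suMat_mul, mY, mD₁, mD₂]
          ext i j; fin_cases i <;> fin_cases j <;> simp [Matrix.mul_apply, Fin.sum_univ_three, Matrix.vecMul_diagonal] <;>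
            first | ring1 | linear_combination (-1 : F) * hw3 | linear_combination hw3 | linear_combination w * hw3 | linear_combination (-w) * hw3
        rw [this, mul_inv_cancel_right]
        exact mul_mem (mul_mem (Subgroup.subset_closure (by simp)) (Subgroup.subset_closure (by simp)))
          (Subgroup.subset_closure (by simp))
      have d2 : Y * D₂ * Y⁻¹ ∈ H := by
        have : Y * D₂ = (D₁ * D₁) * Y := by
          refine inj _ _ ?_
          simp only [suMat_mul, mY, mD₁, mD₂]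
          ext i j; fin_cases i <;> fin_cases j <;> simp [Matrix.mul_apply, Fin.sum_univ_three, Matrix.vecMul_diagonal] <;>
            first | ring1 | linear_combination (-1 : F) * hw3 | linear_combination hw3 | linear_combination w * hw3 | linear_combination (-w) * hw3
        rw [this, mul_inv_cancel_right]
        exact mul_mem (Subgroup.subset_closure (by simp)) (Subgroup.subset_closure (by simp))
      rintro x (rfl | rfl)
      exacts [d1, d2]
    have heq : H.map (MulAut.conj Y).toMonoidHom = H :=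
      Subgroup.eq_of_le_of_card_ge (Subgroup.map_le_iff_le_comap.2 hle)
        (Subgroup.card_map_of_injective (MulAut.conj Y).injective).ge
    exact Subgroup.mem_normalizer_iff_map_conj_eq.2 heq
  obtain ⟨k, hk⟩ := IsPGroup.iff_card.1 (hH3.to_sup_of_normal_left' hY3' hYnorm)
  -- the ten elements
  have hgt : 9 < Nat.card (H ⊔ Subgroup.zpowers Y : Subgroup (Cfsg.SU 3 F 2)) := by
    let f : Option (Fin 3 × Fin 3) → (H ⊔ Subgroup.zpowers Y : Subgroup (Cfsg.SU 3 F 2)) := fun o =>
      match o with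
      | none => ⟨Y, Subgroup.mem_sup_right (Subgroup.mem_zpowers Y)⟩
      | some q => ⟨D₁ ^ (q.1 : ℕ) * D₂ ^ (q.2 : ℕ), Subgroup.mem_sup_left
          (mul_mem (pow_mem (Subgroup.subset_closure (by simp)) _) (pow_mem (Subgroup.subset_closure (by simp)) _))⟩
    have hval : ∀ q : Fin 3 × Fin 3, suMat (f (some q) : Cfsg.SU 3 F 2) =
        Matrix.diagonal fun i => ![w, w ^ 2, 1] i ^ (q.1 : ℕ) * ![w, 1, w ^ 2] i ^ (q.2 : ℕ) := by
      intro q
      show suMat (D₁ ^ (q.1 : ℕ) * D₂ ^ (q.2 : ℕ)) = _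
      have hp : ∀ (g : Cfsg.SU 3 F 2) (v : Fin 3 → F), suMat g = Matrix.diagonal v → ∀ n : ℕ,
          suMat (g ^ n) = Matrix.diagonal fun i => v i ^ n := by
        intro g v hv n
        induction n with
        | zero => simp [suMat_one]
        | succ n ih => rw [pow_succ, suMat_mul, ih, hv, Matrix.diagonal_mul_diagonal]; simp [pow_succ]
      rw [suMat_mul, hp _ _ mD₁, hp _ _ mD₂, Matrix.diagonal_mul_diagonal]
    have hinj : Function.Injective f := by
      have hne' : ∀ q, f none ≠ f (some q) := fun q h => by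
        have h' := congrArg (fun u : (H ⊔ Subgroup.zpowers Y : Subgroup (Cfsg.SU 3 F 2)) => suMat (u : Cfsg.SU 3 F 2) 1 0) h
        simp only [hval] at h'
        simp [f, mY] at h'
      intro o o' h
      rcases o with _ | ⟨i, j⟩ <;> rcases o' with _ | ⟨i', j'⟩
      · rfl
      · exact absurd h (hne' _)
      · exact absurd h.symm (hne' _)
      · have hh : ∀ r, suMat (f (some (i, j)) : Cfsg.SU 3 F 2) r r = suMat (f (some (i', j')) : Cfsg.SU 3 F 2) r r :=
          fun r => by rw [h]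
        have h1 := hh 1
        have h2' := hh 2
        simp [hval] at h1 h2'
        have hord3 : orderOf (w ^ 2) = 3 := orderOf_eq_prime (by rw [← pow_mul]; linear_combination (w ^ 3 + 1) * hw3)
          (fun e2 => hw1 (by linear_combination (-w : F) * e2 + hw3))
        have p3 : ∀ a b : Fin 3, (w ^ 2) ^ (a : ℕ) = (w ^ 2) ^ (b : ℕ) → a = b := fun a b e2 =>
          Fin.ext (pow_injOn_Iio_orderOf (by simp [hord3]) (by simp [hord3]) e2)
        rw [p3 _ _ h1, p3 _ _ h2']
    have := Nat.card_le_card_of_injective f hinj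
    rw [Nat.card_eq_fintype_card, Fintype.card_option, Fintype.card_prod, Fintype.card_fin] at this
    omega
  have hk3 : 3 ≤ k := by
    by_contra h
    rw [hk] at hgt
    interval_cases k <;> simp at hgt
  refine (pow_dvd_pow 3 hk3).trans (hk ▸ Subgroup.card_dvd_of_le (sup_le ?_ ?_))
  · refine (Subgroup.closure_le _).2 ?_
    rintro x (rfl | rfl)
    exacts [mul_mem hCW hAW, mul_mem (mul_mem hBW (mul_mem hCW hAW)) hBW]
  · exact Subgroup.zpowers_le.2 (mul_mem hAW hBW)


set_option maxHeartbeats 400000 in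
theorem exists_gens (hF : Fintype.card F = 4) :
    Nat.card (commutator ↥(Cfsg.SU 3 F 2)) = 54 ∧
      ∃ a b c : commutator ↥(Cfsg.SU 3 F 2), orderOf a = 2 ∧ orderOf b = 2 ∧ orderOf c = 2 ∧
        Subgroup.closure {a, b, c} = ⊤ ∧
        (a * b) ^ 3 = 1 ∧ (b * c) ^ 3 = 1 ∧ (a * c) ^ 3 = 1 ∧ (a * (b * c * b)) ^ 3 = 1 := by
  classical
  have hF' : Nat.card F = 2 ^ 2 := by rw [Nat.card_eq_fintype_card, hF]; rfl
  obtain ⟨w, hw0, hw1⟩ : ∃ w : F, w ≠ 0 ∧ w ≠ 1 := by
    by_contra h
    push Not at h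
    have : (Finset.univ : Finset F) ⊆ {0, 1} := fun x _ => by
      by_cases hx : x = 0
      · simp [hx]
      · simp [h x hx]
    have := Finset.card_le_card this
    rw [Finset.card_univ, hF] at this
    exact absurd (this.trans Finset.card_le_two) (by norm_num)
  have hw3 : w ^ 3 = 1 := cube_eq_one hF' hw0
  obtain ⟨A, B, C, mA, mB, mC⟩ := exists_mono hF' hw3
  have hA2 : A * A = 1 := su_ext' (by rw [suMat_mul, suMat_one, mA]; ext i j; fin_cases i <;> fin_cases j <;> simp [Matrix.mul_apply, Fin.sum_univ_three, Matrix.vecMul_diagonal])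
  have hB2 : B * B = 1 := su_ext' (by rw [suMat_mul, suMat_one, mB]; ext i j; fin_cases i <;> fin_cases j <;> simp [Matrix.mul_apply, Fin.sum_univ_three, Matrix.vecMul_diagonal])
  have hC2 : C * C = 1 := su_ext' (by
    rw [suMat_mul, suMat_one, mC]
    ext i j
    fin_cases i <;> fin_cases j <;> simp [Matrix.mul_apply, Fin.sum_univ_three, Matrix.vecMul_diagonal] <;> linear_combination hw3)
  have hne : ∀ (g : Cfsg.SU 3 F 2) i j, suMat g i j ≠ (1 : Matrix (Fin 3) (Fin 3) F) i j → g ≠ 1 :=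
    fun g i j h e => h (by rw [e, suMat_one])
  have hA1 : A ≠ 1 := hne A 0 0 (by simp [mA])
  have hB1 : B ≠ 1 := hne B 1 1 (by simp [mB])
  have hC1 : C ≠ 1 := hne C 0 0 (by simp [mC])
  have hord : ∀ g : Cfsg.SU 3 F 2, g * g = 1 → g ≠ 1 → orderOf g = 2 := fun g h h' =>
    orderOf_eq_prime (by rw [pow_two, h]) h'
  -- the map onto the quaternion group
  obtain ⟨N, hNn, hN9, -, ⟨e⟩, hPSU, -⟩ := psu32_structure (F := F) hF'
  have hZ : Nat.card (Subgroup.center (Cfsg.SU 3 F 2)) = 3 := card_center_SU hF' (n := 3) (by norm_num)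
  have hSU : Nat.card (Cfsg.SU 3 F 2) = 216 := by
    rw [Subgroup.card_eq_card_quotient_mul_card_subgroup (Subgroup.center (Cfsg.SU 3 F 2)), hZ]
    exact (congrArg (· * 3) hPSU).trans rfl
  let φ : Cfsg.SU 3 F 2 →* QuaternionGroup 2 :=
    e.toMonoidHom.comp ((QuotientGroup.mk' N).comp (QuotientGroup.mk' (Subgroup.center (Cfsg.SU 3 F 2))))
  have hφ : Function.Surjective φ :=
    e.surjective.comp ((QuotientGroup.mk'_surjective N).comp (QuotientGroup.mk'_surjective _))
  set S := Subgroup.zpowers (QuaternionGroup.a 2 : QuaternionGroup 2) with hS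
  set M := S.comap φ with hM
  have hMcard : Nat.card M = 54 := by
    have h1 := M.card_mul_index
    rw [hM, Subgroup.index_comap_of_surjective _ hφ, hSU] at h1
    have h3 := S.card_mul_index
    have h4 : orderOf (QuaternionGroup.a 2 : QuaternionGroup 2) = 2 :=
      orderOf_eq_prime (by decide) (by decide)
    rw [hS, Nat.card_zpowers, h4, Nat.card_eq_fintype_card, QuaternionGroup.card] at h3
    rw [hS] at h1
    rw [hM, hS]
    have : (Subgroup.zpowers (QuaternionGroup.a 2 : QuaternionGroup 2)).index = 4 := by omega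
    rw [this] at h1
    omega
  set K := commutator ↥(Cfsg.SU 3 F 2) with hK
  have hKM : K ≤ M := by
    rw [hK, commutator_def, Subgroup.commutator_le]
    intro x _ y _
    show φ _ ∈ S
    rw [map_commutatorElement, commutatorElement_def]
    rcases quaternion_comm (φ x) (φ y) with h | h <;> rw [h]
    exacts [one_mem _, Subgroup.mem_zpowers _]
  have hinvM : ∀ g : Cfsg.SU 3 F 2, g * g = 1 → g ∈ M := fun g h => by
    show φ g ∈ S
    rcases quaternion_invol (φ g) (by rw [← map_mul, h, map_one]) with h | h <;> rw [h]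
    exacts [one_mem _, Subgroup.mem_zpowers _]
  haveI : Fact (Nat.Prime 2) := ⟨Nat.prime_two⟩
  have hKeven : 2 ∣ Nat.card K := by
    by_contra hodd
    have key : ∀ x y : Cfsg.SU 3 F 2, φ x * φ y = φ y * φ x := by
      intro x y
      have hk : x * y * x⁻¹ * y⁻¹ ∈ K := by
        rw [← commutatorElement_def]; exact Subgroup.commutator_mem_commutator trivial trivial
      rcases quaternion_comm (φ x) (φ y) with h | h
      · have := congrArg (· * (φ y * φ x)) h
        simpa [mul_assoc] using this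
      · exfalso
        apply hodd
        have h4 : orderOf (φ (x * y * x⁻¹ * y⁻¹)) = 2 := by
          rw [map_mul, map_mul, map_mul, map_inv, map_inv, h]
          exact orderOf_eq_prime (by decide) (by decide)
        calc 2 = orderOf (φ (x * y * x⁻¹ * y⁻¹)) := h4.symm
          _ ∣ orderOf (x * y * x⁻¹ * y⁻¹) := orderOf_map_dvd φ _
          _ ∣ Nat.card K := by
              rw [← Subgroup.orderOf_mk (H := K) _ hk]; exact orderOf_dvd_natCard _
    obtain ⟨x, hx⟩ := hφ (QuaternionGroup.a 1)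
    obtain ⟨y, hy⟩ := hφ (QuaternionGroup.xa 0)
    have := key x y
    rw [hx, hy] at this
    exact absurd this (by decide)
  -- all involutions lie in the derived group
  have hinvK : ∀ g : Cfsg.SU 3 F 2, g * g = 1 → g ≠ 1 → g ∈ K := by
    intro g hg hg1
    obtain ⟨z, hz⟩ := exists_prime_orderOf_dvd_card' 2 hKeven
    let z' : M := ⟨z, hKM z.2⟩
    let g' : M := ⟨g, hinvM g hg⟩
    have hz' : orderOf z' = 2 := by
      rw [← Subgroup.orderOf_coe]; show orderOf (z : Cfsg.SU 3 F 2) = 2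
      rw [Subgroup.orderOf_coe]; exact hz
    have hg' : orderOf g' = 2 := by rw [← Subgroup.orderOf_coe]; exact hord g hg hg1
    have hfac : (Nat.card M).factorization 2 = 1 := by
      rw [hMcard]
      refine le_antisymm ?_ ?_
      · by_contra h
        have := (Nat.Prime.pow_dvd_iff_le_factorization Nat.prime_two (by norm_num : (54 : ℕ) ≠ 0)).2
          (show 2 ≤ (54 : ℕ).factorization 2 by omega)
        norm_num at this
      · exact (Nat.Prime.dvd_iff_one_le_factorization Nat.prime_two (by norm_num)).1 (by norm_num)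
    let P : Sylow 2 M := Sylow.ofCard (Subgroup.zpowers z') (by rw [Nat.card_zpowers, hz', hfac, pow_one])
    let R : Sylow 2 M := Sylow.ofCard (Subgroup.zpowers g') (by rw [Nat.card_zpowers, hg', hfac, pow_one])
    obtain ⟨m, hm⟩ := MulAction.exists_smul_eq M P R
    have h1 : g' ∈ ((m • P : Sylow 2 M) : Subgroup M) := by rw [hm]; exact Subgroup.mem_zpowers g'
    rw [Sylow.coe_subgroup_smul, Subgroup.mem_pointwise_smul_iff_inv_smul_mem] at h1
    obtain ⟨i, hi⟩ := h1
    have h5 : g' = m * z' ^ i * m⁻¹ := by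
      have := congrArg (fun u => m * u * m⁻¹) hi
      simp at this
      rw [this]; group
    have h6 : g = (m : Cfsg.SU 3 F 2) * ((z : Cfsg.SU 3 F 2)) ^ i * (m : Cfsg.SU 3 F 2)⁻¹ := by
      have := congrArg (fun u : M => (u : Cfsg.SU 3 F 2)) h5
      simpa [z', g'] using this
    rw [h6]
    exact (inferInstance : (commutator ↥(Cfsg.SU 3 F 2)).Normal).conj_mem _ (zpow_mem z.2 i) _
  -- the monomial subgroup
  set W := Subgroup.closure ({A, B, C} : Set (Cfsg.SU 3 F 2)) with hW
  have hWK : W ≤ K := by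
    refine (Subgroup.closure_le _).2 ?_
    rintro x (rfl | rfl | rfl)
    exacts [hinvK _ hA2 hA1, hinvK _ hB2 hB1, hinvK _ hC2 hC1]
  have hW2 : 2 ∣ Nat.card W := (hord A hA2 hA1).symm.dvd.trans
    ((Subgroup.orderOf_mk (H := W) A (Subgroup.subset_closure (by simp))).symm.dvd.trans (orderOf_dvd_natCard _))
  have h27 := dvd_closure hw0 hw1 hw3 mA mB mC
  have hW54 : 54 ≤ Nat.card W :=
    Nat.le_of_dvd Nat.card_pos (Nat.Coprime.mul_dvd_of_dvd_of_dvd (by norm_num) hW2 h27)
  have hKle : Nat.card K ≤ 54 := hMcard ▸ Nat.card_mono (Set.toFinite _) hKM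
  have hWK' : W = K := Subgroup.eq_of_le_of_card_ge hWK (hKle.trans hW54)
  refine ⟨le_antisymm hKle (hW54.trans (hWK' ▸ le_rfl)),
    ⟨A, hinvK _ hA2 hA1⟩, ⟨B, hinvK _ hB2 hB1⟩, ⟨C, hinvK _ hC2 hC1⟩, ?_, ?_, ?_, ?_, ?_, ?_, ?_, ?_⟩
  · rw [← Subgroup.orderOf_coe]; exact hord A hA2 hA1
  · rw [← Subgroup.orderOf_coe]; exact hord B hB2 hB1
  · rw [← Subgroup.orderOf_coe]; exact hord C hC2 hC1
  · apply Subgroup.map_injective K.subtype_injective
    rw [MonoidHom.map_closure, ← MonoidHom.range_eq_map, Subgroup.range_subtype]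
    refine Eq.trans ?_ hWK'
    simp [hW, Set.image_insert_eq]
  all_goals
    refine Subtype.ext (su_ext' ?_)
    simp only [Subgroup.coe_pow, Subgroup.coe_mul, Subgroup.coe_one, pow_succ, pow_zero, one_mul, suMat_mul,
      suMat_one, mA, mB, mC]
    ext i j
    fin_cases i <;> fin_cases j <;> simp [Matrix.mul_apply, Fin.sum_univ_three] <;>
      first | ring1 | linear_combination hw3 | linear_combination (w ^ 3 + 1) * hw3 | linear_combination (w ^ 6 + w ^ 3 + 1) * hw3

end CfsgLib.ThreeTri
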