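/-
The central element of a group generated by three involutions with the triangle relations.
-/
import Cfsg.Agent.ThreeTri.Triangle

set_option autoImplicit false

namespace CfsgLib.ThreeTri

variable {G : Type*} [Group G]

/-- The commutator of `a * b` and `a * c`. -/
def triElt (a b c : G) : G := a * b * (a * c) * (b * a) * (c * a)

theorem map_triElt {K : Type*} [Group K] (f : G →* K) (a b c : G) :
    f (triElt a b c) = triElt (f a) (f b) (f c) := by
  simp [triElt]

theorem triElt_facts {a b c : G} (ha : a * a = 1) (hb : b * b = 1) (hc : c * c = 1)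
    (hab : (a * b) ^ 3 = 1) (hbc : (b * c) ^ 3 = 1) (hac : (a * c) ^ 3 = 1)
    (hd : (a * (b * c * b)) ^ 3 = 1) :
    triElt a b c ^ 3 = 1 ∧ Commute (triElt a b c) a ∧ Commute (triElt a b c) b ∧
      Commute (triElt a b c) c ∧ triElt b a c * triElt a b c = 1 ∧
      triElt (a * b * a) a c = triElt a b c := by
  set T₁ := a * (b * c * b) with hT₁
  set T₂ := b * (a * c * a) with hT₂
  have eab := braid_of ha hb hab
  have ebc := braid_of hb hc hbc
  have eac := braid_of ha hc hac
  have h12 : T₁ * T₂ = b * a * b * c := by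
    calc T₁ * T₂ = a * b * c * (b * b) * a * c * a := by simp only [hT₁, hT₂, mul_assoc]
      _ = a * b * c * (a * c * a) := by rw [hb, mul_one]; simp only [mul_assoc]
      _ = a * b * (c * c) * a * c := by rw [eac]; simp only [mul_assoc]
      _ = b * a * b * c := by rw [hc, mul_one, eab]
  have h21 : T₂ * T₁ = b * a * b * c := by
    calc T₂ * T₁ = b * a * c * (a * a) * b * c * b := by simp only [hT₁, hT₂, mul_assoc]
      _ = b * a * c * (b * c * b) := by rw [ha, mul_one]; simp only [mul_assoc]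
      _ = b * a * (c * c) * b * c := by rw [ebc]; simp only [mul_assoc]
      _ = b * a * b * c := by rw [hc, mul_one]
  have hcomm : Commute T₁ T₂ := h12.trans h21.symm
  have hinv : ∀ {x : G}, x * x = 1 → x⁻¹ = x := fun h => inv_eq_of_mul_eq_one_left h
  have a1 : a * T₁ * a⁻¹ = T₁⁻¹ := by
    rw [hT₁, mul_inv_rev, mul_inv_rev, mul_inv_rev, hinv ha, hinv hb, hinv hc, ← mul_assoc a a, ha, one_mul]
    simp only [mul_assoc]
  have b2 : b * T₂ * b⁻¹ = T₂⁻¹ := by
    rw [hT₂, mul_inv_rev, mul_inv_rev, mul_inv_rev, hinv ha, hinv hb, hinv hc, ← mul_assoc b b, hb, one_mul]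
    simp only [mul_assoc]
  have a2 : a * T₂ * a⁻¹ = T₁ * T₂ := by
    rw [h12, hT₂, hinv ha, ← eab]
    simp only [mul_assoc, ha, mul_one]
  have b1 : b * T₁ * b⁻¹ = T₁ * T₂ := by
    rw [h12, hT₁, hinv hb]
    simp only [mul_assoc, hb, mul_one]
  have h3 : T₁ ^ 3 = 1 := hd
  have h3'' : T₂ ^ 3 = 1 := by
    have h3' : (T₁ * T₂) ^ 3 = 1 := by rw [← b1, conj_pow, h3, mul_one, mul_inv_cancel]
    rw [hcomm.mul_pow, h3, one_mul] at h3'
    exact h3'
  have i1 : T₁⁻¹ = T₁ ^ 2 := inv_eq_of_mul_eq_one_left (by rw [← pow_succ]; exact h3)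
  have i2 : T₂⁻¹ = T₂ ^ 2 := inv_eq_of_mul_eq_one_left (by rw [← pow_succ]; exact h3'')
  -- the element in terms of the two generators of the normal part
  have hz : triElt a b c = T₁ * T₂ * T₂ := by
    rw [h12, hT₂, triElt]
    calc a * b * (a * c) * (b * a) * (c * a)
        = a * b * a * c * b * a * c * a := by simp only [mul_assoc]
      _ = b * a * b * c * b * a * c * a := by rw [eab]
      _ = b * a * b * c * (b * (a * c * a)) := by simp only [mul_assoc]
  have hz' : triElt b a c = T₂ * T₁ * T₁ := by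
    rw [h21, hT₁, triElt]
    calc b * a * (b * c) * (a * b) * (c * b)
        = b * a * b * c * a * b * c * b := by simp only [mul_assoc]
      _ = b * a * b * c * (a * (b * c * b)) := by simp only [mul_assoc]
  have hz2 : triElt a b c = T₁ * T₂⁻¹ := by rw [hz, i2, pow_two, mul_assoc]
  have hconj : ∀ g : G, g * g = 1 → g * triElt a b c * g⁻¹ = triElt a b c →
      Commute (triElt a b c) g := fun g hg h => by
    have := congrArg (· * g) h
    exact (show g * triElt a b c = triElt a b c * g by simpa [mul_assoc] using this).symm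
  have za : Commute (triElt a b c) a := by
    refine hconj a ha ?_
    calc a * triElt a b c * a⁻¹ = (a * T₁ * a⁻¹) * (a * T₂ * a⁻¹) * (a * T₂ * a⁻¹) := by rw [hz]; group
      _ = T₁⁻¹ * (T₁ * T₂) * (T₁ * T₂) := by rw [a1, a2]
      _ = T₁ * T₂ * T₂ := by
        rw [← mul_assoc T₁⁻¹, inv_mul_cancel, one_mul, ← mul_assoc, ← hcomm.eq]
      _ = _ := hz.symm
  have zb : Commute (triElt a b c) b := by
    refine hconj b hb ?_
    calc b * triElt a b c * b⁻¹ = (b * T₁ * b⁻¹) * (b * T₂ * b⁻¹) * (b * T₂ * b⁻¹) := by rw [hz]; group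
      _ = T₁ * T₂ * T₂⁻¹ * T₂⁻¹ := by rw [b1, b2]
      _ = T₁ * T₂⁻¹ := by rw [mul_inv_cancel_right]
      _ = _ := hz2.symm
  have zT : Commute (triElt a b c) T₁ := by
    rw [hz]
    exact ((Commute.refl T₁).mul_left hcomm.symm).mul_left hcomm.symm
  have zc : Commute (triElt a b c) c := by
    have : c = b * (a * T₁) * b := by
      simp only [hT₁, mul_assoc, hb, mul_one]
      rw [← mul_assoc a a, ha, one_mul, ← mul_assoc b b, hb, one_mul]
    have key : Commute (triElt a b c) (b * (a * T₁) * b) :=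
      (zb.mul_right (za.mul_right zT)).mul_right zb
    rwa [← this] at key
  refine ⟨?_, za, zb, zc, ?_, ?_⟩
  · rw [hz2, hcomm.inv_right.mul_pow, h3, inv_pow, h3'', inv_one, one_mul]
  · rw [hz', hz]
    calc T₂ * T₁ * T₁ * (T₁ * T₂ * T₂) = T₂ * (T₁ ^ 3) * T₂ * T₂ := by
          simp only [pow_succ, pow_zero, one_mul, mul_assoc]
      _ = T₂ ^ 3 := by rw [h3, mul_one]; simp only [pow_succ, pow_zero, one_mul]
      _ = 1 := h3''
  · -- the same element seen from another base point
    have e1 : triElt (a * b * a) a c =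
        (a * (b * (T₁ * T₂) * b⁻¹) * a⁻¹) * (T₁ * T₂)⁻¹ := by
      rw [h12, triElt, show a * b * a * a = a * b by rw [mul_assoc, ha, mul_one],
        show a * (a * b * a) = b * a by simp only [← mul_assoc, ha, one_mul]]
      simp only [mul_inv_rev, hinv ha, hinv hb, hinv hc]
      rw [eab]
      simp only [mul_assoc]
    rw [e1, show b * (T₁ * T₂) * b⁻¹ = (b * T₁ * b⁻¹) * (b * T₂ * b⁻¹) by group, b1, b2,
      mul_inv_cancel_right, a1, mul_inv_rev T₁ T₂, hz, i1, i2, pow_two, pow_two]
    calc T₁ * T₁ * (T₂ * T₂ * (T₁ * T₁)) = T₁ * T₁ * ((T₂ * T₂) * (T₁ * T₁)) := rfl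
      _ = T₁ * T₁ * ((T₁ * T₁) * (T₂ * T₂)) := by
          rw [((hcomm.symm.mul_left hcomm.symm).mul_right (hcomm.symm.mul_left hcomm.symm)).eq]
      _ = T₁ ^ 3 * (T₁ * T₂ * T₂) := by simp only [pow_succ, pow_zero, one_mul, mul_assoc]
      _ = _ := by rw [h3, one_mul]

end CfsgLib.ThreeTri
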