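/-
Three-transposition groups over an abelian normal two-subgroup with quotient `P : 2`, `P` a 3-group:
the quotient is generated by two or three of the transpositions.
-/
import Cfsg.Agent.ThreeTri.Commutator
import Mathlib.GroupTheory.PGroup

set_option autoImplicit false

namespace CfsgLib.ThreeTri

variable {H Q : Type*} [Group H] [Group Q]

/-- `E` is a normal set of involutions; members with distinct images have product of order three,
members with equal images commute; the kernel is an abelian two-group. -/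
structure Setup (E : Set H) (π : H →* Q) : Prop where
  sq : ∀ e ∈ E, e * e = 1
  conj : ∀ g : H, ∀ e ∈ E, g * e * g⁻¹ ∈ E
  three : ∀ d ∈ E, ∀ e ∈ E, π d ≠ π e → (d * e) ^ 3 = 1
  two : ∀ d ∈ E, ∀ e ∈ E, π d = π e → Commute d e
  comm : ∀ u ∈ π.ker, ∀ v ∈ π.ker, Commute u v
  ker : IsPGroup 2 π.ker

variable {E : Set H} {π : H →* Q}

theorem eq_one_of_cube (hS : Setup E π) {v : H} (hv : v ∈ π.ker) (h : v ^ 3 = 1) : v = 1 := by
  obtain ⟨k, hk⟩ := hS.ker ⟨v, hv⟩
  have hk' : v ^ 2 ^ k = 1 := by simpa using congrArg Subtype.val hk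
  have hco : Nat.Coprime (2 ^ k) 3 := Nat.Coprime.pow_left k (by norm_num)
  have := pow_gcd_eq_one.2 ⟨hk', h⟩
  rwa [hco.gcd_eq_one, pow_one] at this

theorem commute_congr (hS : Setup E π) {g g' s : H} (hs : s ∈ π.ker) (he : π g = π g')
    (h : Commute s g) : Commute s g' := by
  have hr : g⁻¹ * g' ∈ π.ker := by rw [MonoidHom.mem_ker, map_mul, map_inv, he, inv_mul_cancel]
  simpa using h.mul_right (hS.comm s hs _ hr)

/-- A commutator of an involution with a kernel element. -/
def kComm (a v : H) : H := a * (v * a * v⁻¹)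

theorem kComm_mem (a : H) {v : H} (hv : v ∈ π.ker) (ha : π a * π a = 1) : kComm a v ∈ π.ker := by
  rw [MonoidHom.mem_ker] at hv ⊢
  simp [kComm, hv, ha]

theorem mul_kComm {a : H} (ha : a * a = 1) (v : H) : a * kComm a v = v * a * v⁻¹ := by
  rw [kComm, ← mul_assoc, ha, one_mul]

theorem key (hS : Setup E π) {a q r s : H} (ha : a ∈ E) (hq : q ∈ E) (hr : r ∈ E)
    (has : a * s ∈ E) (hsv : s ∈ π.ker) (hsa : Commute a s) (hqa : π q ≠ π a) (har : π a ≠ π r)
    (hqr : π q ≠ π r) (hd : π q ≠ π (a * r * a)) (hz : Commute s (triElt q a r)) :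
    Commute s (q * r) := by
  have hπs : π s = 1 := hsv
  have ea : π (a * s) = π a := by rw [map_mul, hπs, mul_one]
  have hsqas : a * s * (a * s) = 1 := hS.sq _ has
  obtain ⟨z3, zq, za, zr, -, -⟩ := triElt_facts (hS.sq q hq) (hS.sq a ha) (hS.sq r hr)
    (hS.three q hq a ha hqa) (hS.three a ha r hr har) (hS.three q hq r hr hqr)
    (hS.three q hq _ (by simpa [inv_eq_of_mul_eq_one_left (hS.sq a ha)] using hS.conj a r hr) hd)
  have hd' : π q ≠ π (a * s * r * (a * s)) := by
    rw [map_mul, map_mul, ea, ← map_mul, ← map_mul]; exact hd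
  obtain ⟨z3', -, -, -, -, -⟩ := triElt_facts (hS.sq q hq) hsqas (hS.sq r hr)
    (hS.three q hq _ has (by rw [ea]; exact hqa)) (hS.three _ has r hr (by rw [ea]; exact har))
    (hS.three q hq r hr hqr)
    (hS.three q hq _ (by simpa [inv_eq_of_mul_eq_one_left hsqas] using hS.conj (a * s) r hr) hd')
  set z := triElt q a r with hzdef
  set z' := triElt q (a * s) r with hz'def
  have hzz' : Commute z z' := by
    have h1 : Commute z (a * s) := za.mul_right hz.symm
    exact (((zq.mul_right h1).mul_right (zq.mul_right zr)).mul_right (h1.mul_right zq)).mul_right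
      (zr.mul_right zq)
  have hker : z⁻¹ * z' ∈ π.ker := by
    rw [MonoidHom.mem_ker, map_mul, map_inv, hzdef, hz'def, map_triElt, map_triElt, ea, inv_mul_cancel]
  have heq : z⁻¹ * z' = 1 := eq_one_of_cube hS hker (by
    rw [hzz'.inv_left.mul_pow, inv_pow, z3, z3', inv_one, one_mul])
  have heq' : z' = z := (inv_mul_eq_one.1 heq).symm
  have e : z' = q * a * (s * (q * r) * s) * (a * q) * (r * q) := by
    rw [hz'def, triElt]
    nth_rw 2 [show a * s = s * a from hsa.eq]
    simp only [mul_assoc]
  have e2 : z = q * a * (q * r) * (a * q) * (r * q) := by rw [hzdef, triElt]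
  have h4 : s * (q * r) * s = q * r := by
    rw [e, e2] at heq'
    exact mul_left_cancel (mul_right_cancel (mul_right_cancel heq'))
  have hss : s * s = 1 := by
    calc s * s = (a * a) * (s * s) := by rw [hS.sq a ha, one_mul]
      _ = a * (a * s) * s := by simp only [mul_assoc]
      _ = a * (s * a) * s := by rw [hsa.eq]
      _ = a * s * (a * s) := by simp only [mul_assoc]
      _ = 1 := hsqas
  calc s * (q * r) = s * (q * r) * (s * s) := by rw [hss, mul_one]
    _ = s * (q * r) * s * s := by simp only [mul_assoc]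
    _ = q * r * s := by rw [h4]

theorem core (hS : Setup E π) {a b c v : H} (ha : a ∈ E) (hb : b ∈ E) (hc : c ∈ E) (hv : v ∈ π.ker)
    (hab : π a ≠ π b) (hac : π a ≠ π c) (hbc : π b ≠ π c) (hcb : π c ≠ π (a * b * a))
    (hz : Commute (kComm a v) (triElt a b c)) : kComm a v = 1 := by
  set s := kComm a v with hs
  have ha2 := hS.sq a ha
  have hb2 := hS.sq b hb
  have hπa : π a * π a = 1 := by rw [← map_mul, ha2, map_one]
  have hsv : s ∈ π.ker := kComm_mem a hv hπa
  have has : a * s ∈ E := by rw [hs, mul_kComm ha2]; exact hS.conj v a ha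
  have hπs : π s = 1 := hsv
  have hsa : Commute a s := by
    have h := hS.two a ha _ has (by rw [map_mul, hπs, mul_one])
    have h' : Commute a (a * (a * s)) := (Commute.refl a).mul_right h
    rwa [← mul_assoc, ha2, one_mul] at h'
  have hab' : a * b * a ∈ E := by
    simpa [inv_eq_of_mul_eq_one_left ha2] using hS.conj a b hb
  have hd : π a ≠ π (b * c * b) := fun e => hcb (by
    have eab := congrArg π (braid_of ha2 hb2 (hS.three a ha b hb hab))
    rw [map_mul, map_mul] at e
    have hbb : π b * π b = 1 := by rw [← map_mul, hb2, map_one]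
    rw [eab, map_mul, map_mul, e]
    simp only [mul_assoc, hbb, mul_one]
    rw [← mul_assoc, hbb, one_mul])
  obtain ⟨-, -, -, -, zinv, zsame⟩ := triElt_facts ha2 hb2 (hS.sq c hc) (hS.three a ha b hb hab)
    (hS.three b hb c hc hbc) (hS.three a ha c hc hac)
    (hS.three a ha _ (by simpa [inv_eq_of_mul_eq_one_left hb2] using hS.conj b c hc) hd)
  have k1 : Commute s (b * c) := by
    refine key hS ha hb hc has hsv hsa hab.symm hac hbc ?_ ?_
    · intro e
      apply hcb
      rw [map_mul, map_mul] at e ⊢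
      rw [e]
      simp only [mul_assoc, hπa, mul_one]
      rw [← mul_assoc, hπa, one_mul]
    · rw [eq_inv_of_mul_eq_one_left zinv]
      exact hz.inv_right
  have k2 : Commute s (a * b * a * c) := by
    refine key hS ha hab' hc has hsv hsa ?_ hac hcb.symm ?_ (zsame.symm ▸ hz)
    · intro e
      apply hab
      rw [map_mul, map_mul] at e
      have := congrArg (fun u => π a * u * π a) e
      simp only [mul_assoc, hπa, mul_one] at this
      rw [← mul_assoc, hπa, one_mul] at this
      exact (by simpa using this.symm)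
    · intro e
      apply hbc
      rw [map_mul, map_mul, map_mul, map_mul] at e
      exact mul_left_cancel (mul_right_cancel e)
  have k3 : Commute s ((a * b) ^ 2) := by
    have := k2.mul_right k1.inv_right
    rwa [show a * b * a * c * (b * c)⁻¹ = (a * b) ^ 2 by
      rw [mul_inv_rev, inv_eq_of_mul_eq_one_left hb2, pow_two]; group] at this
  have hab3 := hS.three a ha b hb hab
  have k4 : Commute s (a * b) := by
    have : a * b = (a * b) ^ 2 * (a * b) ^ 2 := by
      rw [← pow_add, show 2 + 2 = 3 + 1 from rfl, pow_succ, hab3, one_mul]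
    rw [this]; exact k3.mul_right k3
  have h3 := hS.three _ has b hb (by rw [map_mul, hπs, mul_one]; exact hab)
  rw [show a * s * b = s * (a * b) by rw [hsa.eq, mul_assoc], k4.mul_pow, hab3, mul_one] at h3
  exact eq_one_of_cube hS hsv h3

/-- Among the four lines of a nine-group acting on an abelian group of exponent two, one has a
nontrivial fixed point. -/
theorem exists_fixed {M : Type*} [CommGroup M] (A B : M →* M) (hA : ∀ m, A (A (A m)) = m)
    (hB : ∀ m, B (B (B m)) = m) (hAB : ∀ m, A (B m) = B (A m)) (s : M) (hs : s * s = 1) (hs1 : s ≠ 1)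
    (T : Set M) (hT : s ∈ T) (hTA : ∀ m ∈ T, A m ∈ T) (hTB : ∀ m ∈ T, B m ∈ T)
    (hTm : ∀ m ∈ T, ∀ m' ∈ T, m * m' ∈ T) :
    ∃ n ∈ T, n ≠ 1 ∧ (A n = n ∨ B n = n ∨ A (B n) = n ∨ A (B (B n)) = n) := by
  by_contra h
  push Not at h
  have hn : ∀ C : M →* M, (∀ m ∈ T, C m ∈ T) → (∀ m, C (C (C m)) = m) →
      (∀ n ∈ T, n ≠ 1 → C n ≠ n) → s * C s * C (C s) = 1 := by
    intro C hC hC3 hne
    by_contra h1
    refine hne _ (hTm _ (hTm _ hT _ (hC _ hT)) _ (hC _ (hC _ hT))) h1 ?_
    rw [map_mul, map_mul, hC3]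
    simp only [mul_comm, mul_left_comm]
  have n1 := hn A hTA hA fun n hn hn1 => (h n hn hn1).1
  have n2 := hn B hTB hB fun n hn hn1 => (h n hn hn1).2.1
  have n3 := hn (A.comp B) (fun m hm => hTA _ (hTB m hm))
    (fun m => by simp only [MonoidHom.comp_apply, hAB, hA, hB])
    fun n hn hn1 => (h n hn hn1).2.2.1
  have n4 := hn (A.comp (B.comp B)) (fun m hm => hTA _ (hTB _ (hTB m hm)))
    (fun m => by simp only [MonoidHom.comp_apply, hAB, hA, hB])
    fun n hn hn1 => (h n hn hn1).2.2.2
  simp only [MonoidHom.comp_apply] at n3 n4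
  have e3 : A (B (A (B s))) = A (A (B (B s))) := by simp only [hAB]
  have e4 : A (B (B (A (B (B s))))) = A (A (B s)) := by simp only [hAB, hB]
  rw [e3] at n3
  rw [e4] at n4
  set t := s * A s * A (A s) * B s * A (B s) * A (A (B s)) * B (B s) * A (B (B s)) * A (A (B (B s))) with ht
  have htot : t = s := by
    have e : (s * A s * A (A s)) * (s * B s * B (B s)) * (s * A (B s) * A (A (B (B s)))) *
        (s * A (B (B s)) * A (A (B s))) = (s * s) * s * t := by
      rw [ht]; simp only [mul_comm, mul_left_comm, mul_assoc]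
    rw [n1, n2, n3, n4, hs, mul_one, mul_one, mul_one, one_mul] at e
    calc t = (s * s) * t := by rw [hs, one_mul]
      _ = s * (s * t) := mul_assoc _ _ _
      _ = s := by rw [← e, mul_one]
  have hfix : A t = t := by
    rw [ht, map_mul, map_mul, map_mul, map_mul, map_mul, map_mul, map_mul, map_mul, hA, hA, hA]
    simp only [mul_comm, mul_left_comm, mul_assoc]
  exact (h s hT hs1).1 (htot ▸ hfix)

/-- Conjugation on a normal subgroup, as a homomorphism. -/
def kerConj (π : H →* Q) (g : H) : π.ker →* π.ker where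
  toFun u := ⟨g * u * g⁻¹, π.normal_ker.conj_mem u u.2 g⟩
  map_one' := by ext; simp
  map_mul' u w := by ext; simp [mul_assoc]

theorem mem_kComm_conj (hS : Setup E π) {a h v : H} (ha : a ∈ E) (hv : v ∈ π.ker)
    (hh : Commute (π h) (π a)) : ∃ w ∈ π.ker, h * kComm a v * h⁻¹ = kComm a w := by
  refine ⟨h * v * h⁻¹, π.normal_ker.conj_mem v hv h, ?_⟩
  have hπa : π a * π a = 1 := by rw [← map_mul, hS.sq a ha, map_one]
  set a' := h * a * h⁻¹ with ha'
  set w := h * v * h⁻¹ with hwdef
  have hw : w ∈ π.ker := π.normal_ker.conj_mem v hv h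
  set r := a * a' with hr'
  have hr : r ∈ π.ker := by
    rw [MonoidHom.mem_ker, hr', map_mul, ha', map_mul, map_mul, map_inv, hh.eq, mul_inv_cancel_right, hπa]
  have haa : a' = a * r := by rw [hr', ← mul_assoc, hS.sq a ha, one_mul]
  have ha2' : a' * a' = 1 := hS.sq _ (hS.conj h a ha)
  have hwr : Commute w r := hS.comm w hw r hr
  have hwir : Commute r w⁻¹ := hS.comm r hr _ (inv_mem hw)
  calc h * kComm a v * h⁻¹ = a' * (w * a' * w⁻¹) := by rw [kComm, ha', hwdef]; group
    _ = a * r * (w * (a * r) * w⁻¹) := by rw [haa]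
    _ = a * r * (w * a * w⁻¹ * r) := by
        rw [show w * (a * r) * w⁻¹ = w * a * (r * w⁻¹) by group, hwir.eq]; group
    _ = a * (w * a * w⁻¹) * ((w * a * w⁻¹)⁻¹ * r * (w * a * w⁻¹) * r) := by group
    _ = a * (w * a * w⁻¹) * (a * r * (a * r)) := by
        have hx : (w * a * w⁻¹)⁻¹ * r * (w * a * w⁻¹) = a * r * a := by
          rw [show (w * a * w⁻¹)⁻¹ * r * (w * a * w⁻¹) = w * (a⁻¹ * (w⁻¹ * r * w) * a) * w⁻¹ by group,
            show w⁻¹ * r * w = r by rw [mul_assoc, ← hwr.eq, inv_mul_cancel_left],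
            inv_eq_of_mul_eq_one_left (hS.sq a ha)]
          have : a * r * a ∈ π.ker := by
            have := π.normal_ker.conj_mem r hr a
            rwa [inv_eq_of_mul_eq_one_left (hS.sq a ha)] at this
          rw [(hS.comm w hw _ this).eq, mul_inv_cancel_right]
        rw [hx]; simp only [mul_assoc]
    _ = kComm a w := by rw [← haa, ha2', mul_one, kComm]

end CfsgLib.ThreeTri
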