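/-
The quotient in a three-transposition group with an abelian two-subgroup below a `P : 2` is either
dihedral of order six or the group of order fifty-four on three transpositions.
-/
import Cfsg.Agent.ThreeTri.Structure
import Mathlib.GroupTheory.Abelianization.Defs

set_option autoImplicit false

namespace CfsgLib.ThreeTri

variable {H Q : Type*} [Group H] [Group Q] [Finite Q] {E : Set H} {π : H →* Q}

/-- A vanishing commutator of two products of involutions is excluded. -/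
theorem not_commute (hS : Setup E π) {a b c v : H} (ha : a ∈ E) (hb : b ∈ E) (hc : c ∈ E) (hv : v ∈ π.ker)
    (hv1 : kComm a v ≠ 1) (hab : π a ≠ π b) (hac : π a ≠ π c) (hbc : π b ≠ π c)
    (hcb : π c ≠ π (a * b * a)) : ¬ Commute (π a * π b) (π a * π c) := by
  intro h
  refine hv1 (core hS ha hb hc hv hab hac hbc hcb (commute_congr hS (kComm_mem a hv ?_) ?_ (Commute.one_right _)))
  · rw [← map_mul, hS.sq a ha, map_one]
  · rw [map_one, map_triElt, triElt, h.eq]
    have s : ∀ {e : H}, e ∈ E → π e * π e = 1 := fun he => by rw [← map_mul, hS.sq _ he, map_one]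
    symm
    calc π a * π c * (π a * π b) * (π b * π a) * (π c * π a)
        = π a * π c * (π a * (π b * π b) * π a) * (π c * π a) := by simp only [mul_assoc]
      _ = π a * (π c * π c) * π a := by rw [s hb, mul_one, s ha, mul_one]; simp only [mul_assoc]
      _ = 1 := by rw [s hc, mul_one, s ha]

/-- Central commutators make bracketing multiplicative. -/
theorem comm_mul_right {u x y m n : Q} (hm : u * x * u⁻¹ = m * x) (hn : u * y * u⁻¹ = n * y)
    (hxn : Commute n x) : u * (x * y) * u⁻¹ = m * n * (x * y) := by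
  rw [show u * (x * y) * u⁻¹ = (u * x * u⁻¹) * (u * y * u⁻¹) by group, hm, hn]
  calc m * x * (n * y) = m * (x * n) * y := by simp only [mul_assoc]
    _ = m * (n * x) * y := by rw [hxn.eq]
    _ = m * n * (x * y) := by simp only [mul_assoc]

theorem classify (hS : Setup E π) (P : Subgroup Q) [P.Normal] (hP2 : P.index = 2) (hP : IsPGroup 3 P)
    (hE : ∀ e ∈ E, orderOf (π e) = 2) (hlift : ∀ i : Q, orderOf i = 2 → ∃ e ∈ E, π e = i)
    (hgen : Subgroup.closure {i : Q | orderOf i = 2} = ⊤) (hπ : Function.Surjective π)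
    {a v₀ : H} (ha : a ∈ E) (hv₀ : v₀ ∈ π.ker) (hs₀ : kComm a v₀ ≠ 1) (hne : ∃ i : Q, orderOf i = 2 ∧ i ≠ π a) :
    (∃ x y : Q, orderOf x = 2 ∧ orderOf y = 2 ∧ x ≠ y ∧ Subgroup.closure {x, y} = ⊤) ∨
    ∃ x y z : Q, orderOf x = 2 ∧ orderOf y = 2 ∧ orderOf z = 2 ∧ x ≠ y ∧ x ≠ z ∧ y ≠ z ∧
      z ≠ x * y * x ∧ Subgroup.closure {x, y, z} = ⊤ ∧ ¬ Commute (x * y) (x * z) := by
  classical
  haveI : Fact (Nat.Prime 2) := ⟨Nat.prime_two⟩
  haveI : Fact (Nat.Prime 3) := ⟨Nat.prime_three⟩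
  set A := π a with hAdef
  have hA : orderOf A = 2 := hE a ha
  have hsq : ∀ {i : Q}, orderOf i = 2 → i * i = 1 := fun h => by rw [← pow_two, ← h]; exact pow_orderOf_eq_one _
  have hA2 := hsq hA
  have hAi : A⁻¹ = A := inv_eq_of_mul_eq_one_left hA2
  have hnotP : ∀ {i : Q}, orderOf i = 2 → i ∉ P := by
    intro i hi hiP
    obtain ⟨k, hk⟩ := IsPGroup.iff_orderOf.1 hP ⟨i, hiP⟩
    rw [← Subgroup.orderOf_coe, hi] at hk
    rcases Nat.eq_zero_or_pos k with rfl | h
    · simp at hk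
    · have : 3 ∣ 2 := hk ▸ dvd_pow_self 3 h.ne'
      omega
  have hprodP : ∀ {i j : Q}, orderOf i = 2 → orderOf j = 2 → i * j ∈ P := fun hi hj =>
    (Subgroup.mul_mem_iff_of_index_two hP2).2 (iff_of_false (hnotP hi) (hnotP hj))
  have hAP : ∀ p ∈ P, A * p * A ∈ P := fun p hp => by
    simpa [hAi] using (inferInstance : P.Normal).conj_mem p hp A
  -- products with `A` of commuting type
  have hnc : ∀ i j : Q, orderOf i = 2 → orderOf j = 2 → i ≠ A → j ≠ A → i ≠ j → j ≠ A * i * A →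
      ¬ Commute (A * i) (A * j) := by
    intro i j hi hj hiA hjA hij hjiA
    obtain ⟨b, hb, rfl⟩ := hlift i hi
    obtain ⟨c, hc, rfl⟩ := hlift j hj
    exact not_commute hS ha hb hc hv₀ hs₀ hiA.symm hjA.symm hij (by rw [map_mul, map_mul]; exact hjiA)
  by_cases hD : ∃ i : Q, orderOf i = 2 ∧ i ≠ A ∧ ∀ j : Q, orderOf j = 2 → j ∈ Subgroup.closure ({A, i} : Set Q)
  · obtain ⟨i, hi, hiA, hall⟩ := hD
    exact Or.inl ⟨A, i, hA, hi, hiA.symm, top_le_iff.1 (hgen ▸ (Subgroup.closure_le _).2 hall)⟩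
  push Not at hD
  have hthird : ∀ i : Q, orderOf i = 2 → i ≠ A →
      ∃ j : Q, orderOf j = 2 ∧ j ∉ Subgroup.closure ({A, i} : Set Q) ∧ ¬ Commute (A * i) (A * j) := by
    intro i hi hiA
    obtain ⟨j, hj, hjmem⟩ := hD i hi hiA
    have m1 : A ∈ Subgroup.closure ({A, i} : Set Q) := Subgroup.subset_closure (by simp)
    have m2 : i ∈ Subgroup.closure ({A, i} : Set Q) := Subgroup.subset_closure (by simp)
    exact ⟨j, hj, hjmem, hnc i j hi hj hiA (fun e => hjmem (e ▸ m1)) (fun e => hjmem (e ▸ m2))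
      (fun e => hjmem (e ▸ mul_mem (mul_mem m1 m2) m1))⟩
  let Zc : Q → Prop := fun m => m ∈ P ∧ ∀ p ∈ P, Commute m p
  have hZmul : ∀ {m n : Q}, Zc m → Zc n → Zc (m * n) := fun hm hn =>
    ⟨mul_mem hm.1 hn.1, fun p hp => (hm.2 p hp).mul_left (hn.2 p hp)⟩
  have hZinv : ∀ {m : Q}, Zc m → Zc m⁻¹ := fun hm => ⟨inv_mem hm.1, fun p hp => (hm.2 p hp).inv_left⟩
  have hZconj : ∀ {m : Q}, Zc m → Zc (A * m * A) := fun {m} hm => ⟨hAP m hm.1, fun p hp => by
    have h := hm.2 _ (hAP p hp)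
    have := congrArg (fun u => A * u * A) h.eq
    simp only [mul_assoc, hA2, mul_one] at this
    rw [← mul_assoc A A, hA2, one_mul] at this
    show A * m * A * p = p * (A * m * A)
    simpa [mul_assoc] using this⟩
  -- the centre of `P` is fixed by `A`
  have hZA : ∀ m : Q, Zc m → Commute A m := by
    intro m hm
    set w := m⁻¹ * (A * m * A) with hw
    have hwZ : Zc w := hZmul (hZinv hm) (hZconj hm)
    have hAw : A * w = (A * m⁻¹ * A) * m * A := by
      rw [hw]; simp only [mul_assoc]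
    by_contra hne'
    have hord : orderOf (A * w) = 2 := by
      have hcm : Commute m⁻¹ (A * m * A) := (hZinv hm).2 _ (hAP m hm.1)
      have e1 : A * w * A⁻¹ = w⁻¹ := by
        rw [hw, hAi, mul_inv_rev, inv_inv]
        calc A * (m⁻¹ * (A * m * A)) * A = A * m⁻¹ * A * m * (A * A) := by simp only [mul_assoc]
          _ = (A * m⁻¹ * A) * m := by rw [hA2, mul_one]
          _ = (A * m * A)⁻¹ * m := by rw [mul_inv_rev, mul_inv_rev, hAi]; simp only [mul_assoc]
      refine orderOf_eq_prime ?_ ?_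
      · rw [pow_two, ← mul_assoc]
        conv_lhs => rw [show A * w * A * w = (A * w * A⁻¹) * w by rw [hAi]]
        rw [e1, inv_mul_cancel]
      · intro e
        exact hnotP hA (by rw [eq_inv_of_mul_eq_one_left e]; exact inv_mem hwZ.1)
    have hAwA : A * w ≠ A := by
      intro e
      apply hne'
      rw [mul_eq_left, hw, inv_mul_eq_one] at e
      have := congrArg (· * A) e
      simp only [mul_assoc, hA2, mul_one] at this
      exact this.symm
    obtain ⟨j, hj, -, hnc'⟩ := hthird _ hord hAwA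
    rw [← mul_assoc, hA2, one_mul] at hnc'
    exact hnc' (hwZ.2 _ (hprodP hA hj))
  -- a nontrivial element of the second centre
  have hnab : ∃ p ∈ P, ∃ q ∈ P, ¬ Commute p q := by
    obtain ⟨i, hi, hiA⟩ := hne
    obtain ⟨j, hj, -, h⟩ := hthird i hi hiA
    exact ⟨_, hprodP hA hi, _, hprodP hA hj, h⟩
  obtain ⟨v, hvP, hvc, hvZ⟩ : ∃ v ∈ P, ¬ Zc v ∧ ∀ p ∈ P, Zc (v * p * v⁻¹ * p⁻¹) := by
    haveI : Nontrivial (P ⧸ Subgroup.center P) := by
      rw [QuotientGroup.nontrivial_iff]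
      intro htop
      obtain ⟨p, hp, q, hq, hpq⟩ := hnab
      refine hpq (congrArg Subtype.val (Subgroup.mem_center_iff.1 (htop ▸ trivial : (⟨q, hq⟩ : P) ∈ Subgroup.center P) ⟨p, hp⟩))
    haveI := (hP.to_quotient (Subgroup.center P)).center_nontrivial
    obtain ⟨⟨z, hz⟩, hz1⟩ := exists_ne (1 : Subgroup.center (P ⧸ Subgroup.center P))
    obtain ⟨w, rfl⟩ := QuotientGroup.mk_surjective z
    refine ⟨w, w.2, fun hZw => hz1 ?_, fun p hp => ?_⟩
    · apply Subtype.ext
      exact (QuotientGroup.eq_one_iff w).2 (Subgroup.mem_center_iff.2 fun p =>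
        Subtype.ext (hZw.2 p p.2).eq.symm)
    · have h := Subgroup.mem_center_iff.1 hz (QuotientGroup.mk (⟨p, hp⟩ : P))
      have hmem : w * ⟨p, hp⟩ * w⁻¹ * (⟨p, hp⟩ : P)⁻¹ ∈ Subgroup.center P := by
        rw [← QuotientGroup.eq_one_iff, QuotientGroup.mk_mul, QuotientGroup.mk_mul, QuotientGroup.mk_mul,
          QuotientGroup.mk_inv, QuotientGroup.mk_inv, ← h, mul_inv_cancel_right, mul_inv_cancel]
      refine ⟨(w * ⟨p, hp⟩ * w⁻¹ * (⟨p, hp⟩ : P)⁻¹).2, fun q hq => ?_⟩
      exact (congrArg Subtype.val (Subgroup.mem_center_iff.1 hmem ⟨q, hq⟩)).symm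
  have hodd : ∀ m ∈ P, m * m = 1 → m = 1 := by
    intro m hm hm2
    by_contra hne'
    exact hnotP (orderOf_eq_prime (by rw [pow_two, hm2]) hne') hm
  set v' := A * v * A with hv'
  set u := v⁻¹ * v' with hu
  have huP : u ∈ P := mul_mem (inv_mem hvP) (hAP v hvP)
  -- brackets with `u` are central
  have huZ : ∀ p ∈ P, Zc (u * p * u⁻¹ * p⁻¹) := by
    intro p hp
    have h1 := hvZ (A * p * A) (hAP p hp)
    set m := v * (A * p * A) * v⁻¹ * (A * p * A)⁻¹ with hm
    have hAm : A * m * A = m := by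
      rw [(hZA m h1).eq, mul_assoc, hA2, mul_one]
    have hv'p : v' * p * v'⁻¹ * p⁻¹ = m := by
      rw [← hAm, hm, hv']; simp only [mul_inv_rev, hAi, mul_assoc]
      simp only [← mul_assoc A A, hA2, one_mul, mul_one]
    have h2 := hvZ p hp
    set n := v * p * v⁻¹ * p⁻¹ with hn
    have e : u * p * u⁻¹ * p⁻¹ = m * n⁻¹ := by
      have e1 : v' * p * v'⁻¹ = m * p := by rw [← hv'p, inv_mul_cancel_right]
      have e2 : v⁻¹ * p * v = n⁻¹ * p := by
        have e2' : v * p * v⁻¹ = n * p := by rw [hn, inv_mul_cancel_right]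
        have : v⁻¹ * (n * p) * v = p := by rw [← e2']; group
        calc v⁻¹ * p * v = n⁻¹ * (n * (v⁻¹ * p * v)) := by group
          _ = n⁻¹ * (v⁻¹ * (n * p) * v) := by
              rw [← mul_assoc n, ← mul_assoc n, (h2.2 v⁻¹ (inv_mem hvP)).eq]; simp only [mul_assoc]
          _ = n⁻¹ * p := by rw [this]
      calc u * p * u⁻¹ * p⁻¹ = v⁻¹ * (v' * p * v'⁻¹) * v * p⁻¹ := by rw [hu]; group
        _ = m * (v⁻¹ * p * v) * p⁻¹ := by
            rw [e1, ← mul_assoc v⁻¹, ← (h1.2 v⁻¹ (inv_mem hvP)).eq]; simp only [mul_assoc]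
        _ = m * n⁻¹ := by rw [e2]; simp only [mul_assoc, mul_inv_cancel, mul_one]
    rw [e]; exact hZmul h1 (hZinv h2)
  have hu1 : u ≠ 1 := by
    intro hu1
    have hvA : Commute A v := by
      rw [hu, inv_mul_eq_one, hv'] at hu1
      have := congrArg (· * A) hu1
      simp only [mul_assoc, hA2, mul_one] at this
      exact this.symm
    apply hvc
    have hcom : ∀ i : Q, orderOf i = 2 → Commute v i := by
      intro i hi
      set x := A * i with hx
      have hxP : x ∈ P := hprodP hA hi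
      set m := v * x * v⁻¹ * x⁻¹ with hm
      have hmZ := hvZ x hxP
      have hxi : x⁻¹ = A * x * A⁻¹ := by
        rw [hx, mul_inv_rev, hAi, inv_eq_of_mul_eq_one_left (hsq hi), ← mul_assoc A A, hA2, one_mul]
      have e1 : m = v * x⁻¹ * v⁻¹ * x := by
        calc m = A * m * A⁻¹ := by rw [(hZA m hmZ).eq, mul_inv_cancel_right]
          _ = (A * v * A⁻¹) * (A * x * A⁻¹) * (A * v * A⁻¹)⁻¹ * (A * x * A⁻¹)⁻¹ := by rw [hm]; group
          _ = _ := by rw [hvA.eq, mul_inv_cancel_right, ← hxi, inv_inv]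
      have hxm : v * x * v⁻¹ = m * x := by rw [hm, inv_mul_cancel_right]
      have hm2 : m * m = 1 := by
        have h' : m = m⁻¹ := by
          calc m = v * x⁻¹ * v⁻¹ * x := e1
            _ = (v * x * v⁻¹)⁻¹ * x := by group
            _ = (x⁻¹ * m⁻¹) * x := by rw [hxm, mul_inv_rev]
            _ = m⁻¹ := by rw [← ((hZinv hmZ).2 _ (inv_mem hxP)).eq, inv_mul_cancel_right]
        exact mul_eq_one_iff_eq_inv.2 h'
      have hm1 : m = 1 := hodd m hmZ.1 hm2
      have hvx : Commute v x := by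
        rw [hm1, one_mul, mul_inv_eq_iff_eq_mul] at hxm
        exact hxm
      have : i = A * x := by rw [hx, ← mul_assoc, hA2, one_mul]
      rw [this]
      exact hvA.symm.mul_right hvx
    have hall : ∀ q : Q, Commute v q := by
      intro q
      have hq : q ∈ Subgroup.centralizer ({v} : Set Q) := by
        refine (hgen ▸ (Subgroup.closure_le _).2 fun i hi => ?_ :
          (⊤ : Subgroup Q) ≤ Subgroup.centralizer ({v} : Set Q)) trivial
        exact Subgroup.mem_centralizer_singleton_iff.2 (hcom i hi).eq.symm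
      exact (Subgroup.mem_centralizer_singleton_iff.1 hq).symm
    exact ⟨hvP, fun p _ => hall p⟩
  have huA : A * u * A = u⁻¹ := by
    rw [hu, hv']; simp only [mul_inv_rev, inv_inv, hAi, mul_assoc, hA2, mul_one]
  set e₀ := A * u with he₀
  have heu : A * e₀ = u := by rw [he₀, ← mul_assoc, hA2, one_mul]
  have he₀A : e₀ ≠ A := fun e => hu1 (mul_eq_left.1 e)
  have he₀ord : orderOf e₀ = 2 := orderOf_eq_prime
    (by rw [pow_two, he₀, ← mul_assoc, huA, inv_mul_cancel])
    (fun e => hnotP hA (by rw [eq_inv_of_mul_eq_one_left e]; exact inv_mem huP))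
  obtain ⟨f, hf, hfmem, hfnc⟩ := hthird e₀ he₀ord he₀A
  have mA2 : A ∈ Subgroup.closure ({A, e₀} : Set Q) := Subgroup.subset_closure (by simp)
  have me2 : e₀ ∈ Subgroup.closure ({A, e₀} : Set Q) := Subgroup.subset_closure (by simp)
  set L := Subgroup.closure ({A, e₀, f} : Set Q) with hL
  by_cases hall : ∀ i : Q, orderOf i = 2 → i ∈ L
  · exact Or.inr ⟨A, e₀, f, hA, he₀ord, hf, he₀A.symm, fun e => hfmem (e ▸ mA2), fun e => hfmem (e ▸ me2),
      fun e => hfmem (e ▸ mul_mem (mul_mem mA2 me2) mA2),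
      top_le_iff.1 (hgen ▸ (Subgroup.closure_le _).2 hall), hfnc⟩
  exfalso
  push Not at hall
  obtain ⟨g, hg, hgL⟩ := hall
  have hAL : A ∈ L := Subgroup.subset_closure (by simp)
  have heL : e₀ ∈ L := Subgroup.subset_closure (by simp)
  have hfL : f ∈ L := Subgroup.subset_closure (by simp)
  set x := A * f with hx
  set y := A * g with hy
  have hxP : x ∈ P := hprodP hA hf
  have hyP : y ∈ P := hprodP hA hg
  have hinv : ∀ {i : Q}, orderOf i = 2 → A * (A * i) * A = (A * i)⁻¹ := fun hi => by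
    rw [← mul_assoc A A, hA2, one_mul, mul_inv_rev, hAi, inv_eq_of_mul_eq_one_left (hsq hi)]
  have hcube : ∀ {i : Q}, orderOf i = 2 → i ≠ A → (A * i) ^ 3 = 1 := fun {i} hi hiA => by
    obtain ⟨b, hb, rfl⟩ := hlift i hi
    rw [hAdef, ← map_mul, ← map_pow, hS.three a ha b hb hiA.symm, map_one]
  let M : Q → Q := fun p => u * p * u⁻¹ * p⁻¹
  have hMmul : ∀ p ∈ P, ∀ q ∈ P, M (p * q) = M p * M q := by
    intro p hp q hq
    have := comm_mul_right (m := M p) (n := M q) (u := u) (x := p) (y := q)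
      (by simp [M]) (by simp [M]) ((huZ q hq).2 p hp)
    show u * (p * q) * u⁻¹ * (p * q)⁻¹ = _
    rw [this, mul_inv_cancel_right]
  have hMx : M x ^ 3 = 1 ∧ M y ^ 3 = 1 := by
    have key : ∀ i, orderOf i = 2 → i ≠ A → M (A * i) ^ 3 = 1 := by
      intro i hi hiA
      have hp := hprodP hA hi
      rw [pow_succ, pow_two, ← hMmul _ hp _ hp, ← hMmul _ (mul_mem hp hp) _ hp, ← pow_two, ← pow_succ,
        hcube hi hiA]
      simp [M]
    exact ⟨key f hf fun e => hfmem (e ▸ mA2), key g hg fun e => hgL (e ▸ hAL)⟩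
  obtain ⟨h1, hh1⟩ := hπ (M x)
  obtain ⟨h2, hh2⟩ := hπ (M y)
  letI instK : CommGroup π.ker :=
    { (inferInstance : Group π.ker) with mul_comm := fun u w => Subtype.ext (hS.comm u u.2 w w.2) }
  have hconj3 : ∀ h : H, π h ^ 3 = 1 → ∀ m : π.ker, kerConj π h (kerConj π h (kerConj π h m)) = m := by
    intro h h3 m
    apply Subtype.ext
    show h * (h * (h * (m : H) * h⁻¹) * h⁻¹) * h⁻¹ = m
    have hc : Commute (m : H) (h ^ 3) := commute_congr hS m.2 (by rw [map_one, map_pow, h3]) (Commute.one_right _)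
    calc h * (h * (h * (m : H) * h⁻¹) * h⁻¹) * h⁻¹ = h ^ 3 * m * (h ^ 3)⁻¹ := by
          simp only [pow_succ, pow_zero, one_mul, mul_inv_rev, mul_assoc]
      _ = m := by rw [← hc.eq, mul_inv_cancel_right]
  have hcomm12 : ∀ m : π.ker, kerConj π h1 (kerConj π h2 m) = kerConj π h2 (kerConj π h1 m) := by
    intro m
    apply Subtype.ext
    show h1 * (h2 * (m : H) * h2⁻¹) * h1⁻¹ = h2 * (h1 * (m : H) * h1⁻¹) * h2⁻¹
    have hc : Commute (m : H) ((h2 * h1)⁻¹ * (h1 * h2)) := commute_congr hS m.2 (by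
      rw [map_one, map_mul, map_inv, map_mul, map_mul, hh1, hh2, ((huZ x hxP).2 _ (huZ y hyP).1).eq,
        inv_mul_cancel]) (Commute.one_right _)
    calc h1 * (h2 * (m : H) * h2⁻¹) * h1⁻¹
        = h2 * h1 * (((h2 * h1)⁻¹ * (h1 * h2)) * m * ((h2 * h1)⁻¹ * (h1 * h2))⁻¹) * (h2 * h1)⁻¹ := by group
      _ = h2 * h1 * m * (h2 * h1)⁻¹ := by rw [← hc.eq, mul_inv_cancel_right]
      _ = _ := by group
  have hπa : π a * π a = 1 := hA2
  let T : Set π.ker := {n | ∃ w ∈ π.ker, (n : H) = kComm a w}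
  have hTconj : ∀ (h : H), Commute (π h) A → ∀ m ∈ T, kerConj π h m ∈ T := by
    rintro h hh m ⟨w, hw, e⟩
    obtain ⟨w', hw', e'⟩ := mem_kComm_conj hS ha hw hh
    exact ⟨w', hw', by show h * (m : H) * h⁻¹ = _; rw [e, e']⟩
  have hTmul : ∀ m ∈ T, ∀ m' ∈ T, m * m' ∈ T := by
    rintro m ⟨w, hw, e⟩ m' ⟨w', hw', e'⟩
    refine ⟨w * w', mul_mem hw hw', ?_⟩
    show (m : H) * (m' : H) = _
    rw [e, e']
    have hk : Commute (kComm a w') w⁻¹ := hS.comm _ (kComm_mem a hw' hπa) _ (inv_mem hw)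
    calc kComm a w * kComm a w' = a * w * a * (w⁻¹ * kComm a w') := by simp only [kComm, mul_assoc]
      _ = a * w * a * (kComm a w' * w⁻¹) := by rw [hk.eq]
      _ = a * w * (a * a) * (w' * a * w'⁻¹) * w⁻¹ := by simp only [kComm, mul_assoc]
      _ = _ := by rw [hS.sq a ha, mul_one]; simp only [kComm, mul_inv_rev, mul_assoc]
  let s₀ : π.ker := ⟨kComm a v₀, kComm_mem a hv₀ hπa⟩
  have hs0 : s₀ ∈ T := ⟨v₀, hv₀, rfl⟩
  have hTsq : ∀ w ∈ π.ker, kComm a w * kComm a w = 1 := by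
    intro w hw
    have has := hS.conj w a ha
    have hc : Commute a (w * a * w⁻¹) := hS.two a ha _ has (by
      rw [map_mul, map_mul, map_inv, show π w = 1 from hw]; simp)
    calc kComm a w * kComm a w = a * (w * a * w⁻¹ * a) * (w * a * w⁻¹) := by simp only [kComm, mul_assoc]
      _ = a * (a * (w * a * w⁻¹)) * (w * a * w⁻¹) := by rw [hc.eq]
      _ = (a * a) * ((w * a * w⁻¹) * (w * a * w⁻¹)) := by simp only [mul_assoc]
      _ = 1 := by rw [hS.sq a ha, hS.sq _ has, one_mul]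
  obtain ⟨n, ⟨w, hw, hnw⟩, hn1, hfix⟩ := exists_fixed (kerConj π h1) (kerConj π h2)
    (hconj3 h1 (by rw [hh1]; exact hMx.1)) (hconj3 h2 (by rw [hh2]; exact hMx.2)) hcomm12 s₀
    (Subtype.ext (hTsq v₀ hv₀)) (fun e => hs₀ (congrArg Subtype.val e)) T hs0
    (hTconj h1 (by rw [hh1]; exact (hZA _ (huZ x hxP)).symm))
    (hTconj h2 (by rw [hh2]; exact (hZA _ (huZ y hyP)).symm)) hTmul
  -- the excluded triple
  have hnot : ∀ t : Q, (t ∈ L → y ∈ L) → A * t ∉ Subgroup.closure ({A, e₀} : Set Q) := by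
    intro t htL h'
    have hle : Subgroup.closure ({A, e₀} : Set Q) ≤ L := Subgroup.closure_mono (by
      rintro z (rfl | rfl) <;> simp)
    have h2' := mul_mem hAL (hle h')
    rw [← mul_assoc, hA2, one_mul] at h2'
    have := mul_mem hAL (htL h2')
    rw [hy, ← mul_assoc, hA2, one_mul] at this
    exact hgL this
  have final : ∀ t ∈ P, A * t * A = t⁻¹ → A * t ∉ Subgroup.closure ({A, e₀} : Set Q) → ∀ h : H, π h = M t →
      h * (n : H) * h⁻¹ = n → False := by
    intro t ht htA hAtL h hh hhn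
    have hAt : orderOf (A * t) = 2 := orderOf_eq_prime
      (by rw [pow_two, ← mul_assoc, htA, inv_mul_cancel])
      (fun e => hnotP hA (by rw [eq_inv_of_mul_eq_one_left e]; exact inv_mem ht))
    obtain ⟨b, hb, hbe⟩ := hlift e₀ he₀ord
    obtain ⟨c, hc, hce⟩ := hlift (A * t) hAt
    refine hn1 (Subtype.ext ?_)
    rw [hnw]
    refine core hS ha hb hc hw (by rw [hbe]; exact he₀A.symm) (by rw [hce]; exact fun e => hAtL (e ▸ mA2))
      (by rw [hbe, hce]; exact fun e => hAtL (e ▸ me2))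
      (by rw [map_mul, map_mul, hbe, hce]; exact fun e => hAtL (e ▸ mul_mem (mul_mem mA2 me2) mA2)) ?_
    refine commute_congr hS (kComm_mem a hw hπa) (g := h) ?_ ?_
    · rw [hh, map_triElt, triElt, hbe, hce, ← hAdef]
      have hAeA : e₀ * A = u⁻¹ := by rw [he₀]; exact huA
      rw [heu, hAeA, htA, ← mul_assoc A A, hA2, one_mul]
    · rw [← hnw]
      show (n : H) * h = h * n
      nth_rw 1 [← hhn]
      rw [inv_mul_cancel_right]
  have hsqA : ∀ {p : Q}, A * p * A = p⁻¹ → A * (p * p) * A = (p * p)⁻¹ := fun {p} e => by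
    rw [mul_inv_rev, ← e]; simp only [mul_assoc]; rw [← mul_assoc A A, hA2, one_mul]
  have hpal : ∀ {p q : Q}, A * p * A = p⁻¹ → A * q * A = q⁻¹ → A * (p * q * p) * A = (p * q * p)⁻¹ :=
    fun {p q} ep eq => by
      rw [mul_inv_rev, mul_inv_rev, ← ep, ← eq]
      simp only [mul_assoc]
      rw [← mul_assoc A A, hA2, one_mul, ← mul_assoc A A, hA2, one_mul]
  have hxA : A * x * A = x⁻¹ := hinv hf
  have hyA : A * y * A = y⁻¹ := hinv hg
  have hxL : x ∈ L := mul_mem hAL hfL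
  have hx2 : x * x ∈ P := mul_mem hxP hxP
  have hy2 : y * y ∈ P := mul_mem hyP hyP
  have hM2 : ∀ p ∈ P, M (x * x * p * (x * x)) = M x ^ 4 * M p := by
    intro p hp
    rw [hMmul _ (mul_mem hx2 hp) _ hx2, hMmul _ hx2 _ hp, hMmul _ hxP _ hxP]
    have hc := (huZ x hxP).2 _ (huZ p hp).1
    calc M x * M x * M p * (M x * M x) = M x * M x * ((M p) * (M x * M x)) := by simp only [mul_assoc]
      _ = M x * M x * ((M x * M x) * M p) := by rw [(hc.symm.mul_right hc.symm).eq]
      _ = M x ^ 4 * M p := by simp only [pow_succ, pow_zero, one_mul, mul_assoc]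
  have hM4 : M x ^ 4 = M x := by rw [pow_succ, hMx.1, one_mul]
  rcases hfix with h | h | h | h <;> replace h := congrArg Subtype.val h
  · exact final x hxP hxA (by rwa [hx, ← mul_assoc, hA2, one_mul]) h1 hh1 h
  · exact final y hyP hyA (hnot y id) h2 hh2 h
  · refine final (x * x * y * (x * x)) (mul_mem (mul_mem hx2 hyP) hx2) (hpal (hsqA hxA) hyA) (hnot _ ?_) (h1 * h2)
      (by rw [map_mul, hh1, hh2, hM2 y hyP, hM4]) ?_
    · intro h'
      have hx2L := mul_mem hxL hxL
      have := mul_mem (mul_mem (inv_mem hx2L) h') (inv_mem hx2L)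
      simpa [mul_assoc] using this
    · calc h1 * h2 * (n : H) * (h1 * h2)⁻¹ = h1 * (h2 * (n : H) * h2⁻¹) * h1⁻¹ := by group
        _ = _ := h
  · refine final (x * x * (y * y) * (x * x)) (mul_mem (mul_mem hx2 hy2) hx2) (hpal (hsqA hxA) (hsqA hyA)) (hnot _ ?_)
      (h1 * (h2 * h2)) (by rw [map_mul, map_mul, hh1, hh2, hM2 _ hy2, hM4, hMmul _ hyP _ hyP]) ?_
    · intro h'
      have hx2L := mul_mem hxL hxL
      have h'' : y * y ∈ L := by
        have := mul_mem (mul_mem (inv_mem hx2L) h') (inv_mem hx2L)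
        simpa [mul_assoc] using this
      have e : y = (y * y) * (y * y) := by
        have := hcube hg fun e => hgL (e ▸ hAL)
        rw [← hy] at this
        rw [← pow_two y, ← pow_add, show 2 + 2 = 3 + 1 from rfl, pow_succ, this, one_mul]
      rw [e]; exact mul_mem h'' h''
    · calc h1 * (h2 * h2) * (n : H) * (h1 * (h2 * h2))⁻¹
          = h1 * (h2 * (h2 * (n : H) * h2⁻¹) * h2⁻¹) * h1⁻¹ := by group
        _ = _ := h

end CfsgLib.ThreeTri
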